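import Cfsg.Agent.Lib.LinP.Eig
import Cfsg.Agent.S4471
import Cfsg.Agent.Lib.PLocal.BaerSuzuki
import Cfsg.Agent.Lib.Loc.Residual

/-!
# Elements with two eigenvalues
-/

set_option autoImplicit false

namespace Cfsg.Lib.LinP

open Module Cfsg.Lib.Cyc Subgroup Cfsg.Lib.Char Cfsg.Lib.Core Cfsg.Lib.Modular

variable {G H : Type*} [Group G] [Group H] {p n : ℕ} {a b g w : G}

/-- `p`-elements. -/
def PE (p : ℕ) (g : G) : Prop := ∃ k, g ^ p ^ k = 1

theorem PE.isPGroup (h : PE p g) : IsPGroup p (zpowers g) := isPGroup_subgroup_iff.2 (by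
  rintro _ ⟨i, rfl⟩
  exact h.imp fun k hk => by
    rw [← zpow_natCast, ← zpow_mul, mul_comm, zpow_mul, zpow_natCast, hk, one_zpow])

theorem pe_of_mem {A : Subgroup G} (hA : IsPGroup p A) (h : g ∈ A) : PE p g :=
  isPGroup_subgroup_iff.1 hA g h

theorem PE.map (h : PE p g) (f : G →* H) : PE p (f g) :=
  h.imp fun k hk => by rw [← map_pow, hk, map_one]

theorem PE.conj (h : PE p g) (a : G) : PE p (a * g * a⁻¹) := h.map (MulAut.conj a).toMonoidHom

theorem PE.coe {A : Subgroup G} (h : PE p g) (hg : g ∈ A) : PE p (⟨g, hg⟩ : A) :=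
  h.imp fun _ hk => Subtype.ext hk

theorem PE.pair (ha : PE p a) (hb : PE p b) (h : Commute a b) :
    IsPGroup p (closure ({a, b} : Set G)) := by
  rw [Set.insert_eq, Subgroup.closure_union, ← zpowers_eq_closure, ← zpowers_eq_closure]
  refine ha.isPGroup.to_sup_of_normal_right' hb.isPGroup (zpowers_le.2 (centralizer_le_normalizer _ ?_))
  rintro _ ⟨i, rfl⟩
  exact (h.symm.zpow_left i).eq

/-- The group is generated by its `p`-elements. -/
def Gen (p : ℕ) (G : Type*) [Group G] : Prop :=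
  ∀ K : Subgroup G, (∀ y, PE p y → y ∈ K) → K = ⊤

theorem gen_closure {S : Set G} (h : ∀ y ∈ S, PE p y) : Gen p (closure S) := fun K hK => by
  rw [eq_top_iff, ← closure_closure_coe_preimage, closure_le]
  exact fun y hy => hK y ((h y hy).coe y.2)

theorem gen_pel (A : Subgroup G) : Gen p (pElementClosure p A) :=
  gen_closure fun y ⟨_, k, hk⟩ => ⟨k, hk ▸ pow_orderOf_eq_one y⟩

theorem Gen.of_surjective (h : Gen p G) {f : G →* H} (hf : Function.Surjective f) : Gen p H :=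
  fun K hK => by
    rw [← map_comap_eq_self_of_surjective hf K, h (K.comap f) fun y hy => hK _ (hy.map f),
      map_top_of_surjective f hf]

theorem Gen.isPGroup [Fact p.Prime] (h : Gen p G) (P : Sylow p G) (hP : (P : Subgroup G).Normal) :
    IsPGroup p G := by
  have h1 := h P fun y hy => (P.is_maximal' (hy.isPGroup.to_sup_of_normal_right P.2)
    le_sup_right).le (le_sup_left (a := zpowers y) (mem_zpowers y))
  exact (h1 ▸ P.2 :).of_equiv topEquiv

variable [Finite G] (ρ : Representation ℂ G (Fin n → ℂ)) (hρ : Function.Injective ρ)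
include hρ

theorem comm_conj_two {α ω : ℂ} (hα : IsOfFinOrder α) (hω : ‖ω - 1‖ < 1)
    (hev : ∀ (μ : ℂ) v, v ≠ 0 → ρ a v = μ • v → μ = α ∨ μ = α * ω) (g : G) :
    Commute a (g * a * g⁻¹) := by
  have h0 : α ≠ 0 := hα.isUnit.ne_zero
  let u := Units.mk0 α h0
  have : Finite (zpowers u) := finite_zpowers.2 (by rwa [← Units.isOfFinOrder_val])
  let σ := twistRep (ρ.comp (MonoidHom.fst G (zpowers u))) ((zpowers u).subtype.comp (MonoidHom.snd _ _))
  let τ : Representation ℂ ((G × zpowers u) ⧸ σ.ker) (Fin n → ℂ) :=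
    QuotientGroup.lift σ.ker σ fun _ h => h
  let c : zpowers u := ⟨u, mem_zpowers u⟩
  have h1 : ∀ g : G, τ (((g, c⁻¹) : G × zpowers u) : _ ⧸ σ.ker) = α⁻¹ • ρ g := fun g => by
    change ((u⁻¹ : ℂˣ) : ℂ) • ρ g = _
    simp [u]
  have h2 := Agent.S4471.comm_conj τ ((injective_iff_map_eq_one τ).2 fun y hy => by
    obtain ⟨y, rfl⟩ := QuotientGroup.mk_surjective y
    exact (QuotientGroup.eq_one_iff y).2 hy) (a := ((a, c⁻¹) : G × zpowers u)) hω (fun μ v hv h => by
      rw [h1, LinearMap.smul_apply, inv_smul_eq_iff₀ h0, smul_smul] at h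
      exact (hev _ v hv h).imp (fun e => mul_left_cancel₀ h0 (by rw [e, mul_one]))
        (mul_left_cancel₀ h0)) 1 ((g, 1) : G × zpowers u)
  have h3 := (h2.map τ).eq
  rw [one_mul, inv_one, mul_one, ← QuotientGroup.mk_inv, ← QuotientGroup.mk_mul,
    ← QuotientGroup.mk_mul, Prod.inv_mk, Prod.mk_mul_mk, Prod.mk_mul_mk, one_mul, inv_one, mul_one,
    h1, h1, smul_mul_smul_comm, smul_mul_smul_comm,
    smul_right_inj (mul_ne_zero (inv_ne_zero h0) (inv_ne_zero h0)), ← map_mul, ← map_mul] at h3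
  exact hρ h3

theorem two_eig [hp : Fact p.Prime] (hO : pCore p G = ⊥) {T : Submodule ℂ (Fin n → ℂ)} (h0 : T ≠ ⊥)
    (h1 : T ≠ ⊤) {α β : ℂ} (hα : ∀ v ∈ T, ρ w v = α • v) (hβ : ∀ v, ρ w v - β • v ∈ T)
    (h7 : 7 ≤ orderOf (α⁻¹ * β)) (hm : p ∣ orderOf (α⁻¹ * β)) : False := by
  have h2 : ∀ k, ∀ v ∈ T, ρ (w ^ k) v = α ^ k • v := fun k v hv => by
    induction k with
    | zero => simp
    | succ k ih => rw [pow_succ, map_mul, End.mul_apply, hα v hv, map_smul, ih, smul_smul, pow_succ']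
  have h3 : ∀ k v, ρ (w ^ k) v - β ^ k • v ∈ T := fun k v => by
    induction k with
    | zero => simp
    | succ k ih =>
      have := T.add_mem (hβ (ρ (w ^ k) v)) (T.smul_mem β ih)
      rwa [smul_sub, sub_add_sub_cancel, smul_smul, ← End.mul_apply, ← map_mul, ← pow_succ',
        ← pow_succ'] at this
  obtain ⟨u, hu, h4⟩ := (Submodule.ne_bot_iff T).1 h0
  obtain ⟨u', hu'⟩ : ∃ v, v ∉ T := not_forall.1 fun h => h1 (Submodule.eq_top_iff'.2 h)
  have h5 : ∀ k, w ^ k = 1 → α ^ k = 1 ∧ β ^ k = 1 := fun k hk => by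
    have h5 := h2 k u hu
    have h6 := h3 k u'
    rw [hk, map_one, End.one_apply] at h5 h6
    refine ⟨smul_left_injective ℂ h4 (h5.symm.trans (one_smul _ _).symm), by_contra fun e => hu' ?_⟩
    rw [← T.smul_mem_iff (sub_ne_zero.2 (Ne.symm e)), sub_smul, one_smul]
    exact h6
  have h6 : IsOfFinOrder α := isOfFinOrder_iff_pow_eq_one.2
    ⟨_, orderOf_pos w, (h5 _ (pow_orderOf_eq_one w)).1⟩
  set m := orderOf (α⁻¹ * β)
  have : NeZero m := ⟨by omega⟩
  have hω := Complex.isPrimitiveRoot_exp m (NeZero.ne m)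
  have hω1 := Agent.S4471.norm_lt_one h7
  generalize Complex.exp (2 * Real.pi * Complex.I / m) = ω at hω hω1
  obtain ⟨k, -, hk⟩ := (IsPrimitiveRoot.orderOf (α⁻¹ * β)).eq_pow_of_pow_eq_one hω.pow_eq_one
  have h8 : α ^ k * ω = β ^ k := by
    rw [← hk, ← mul_pow, mul_inv_cancel_left₀ h6.isUnit.ne_zero]
  have h9 := comm_conj_two ρ hρ (a := w ^ k) (h6.pow (n := k)) hω1 fun μ v hv h => by
    refine or_iff_not_imp_right.2 fun e => smul_left_injective ℂ hv (h.symm.trans (h2 k v ?_))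
    have := h3 k v
    rwa [h, ← sub_smul, T.smul_mem_iff (sub_ne_zero.2 (h8 ▸ e))] at this
  have h10 : p ∣ orderOf (w ^ k) := by
    obtain ⟨h10, h11⟩ := h5 (k * orderOf (w ^ k)) (by rw [pow_mul, pow_orderOf_eq_one])
    refine hm.trans (hω.dvd_of_pow_eq_one _ ?_)
    rwa [pow_mul, ← h8, mul_pow, ← pow_mul, h10, one_mul] at h11
  refine (pPart_ne_one_iff hp.out).2 h10 (mem_bot.1 (hO.le
    (PLocal.mem_pCore_of_forall_isPGroup_closure_conj fun g => ?_)))
  obtain ⟨j, hj⟩ := pElt_pPart hp.out (w ^ k)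
  have h11 : PE p (pPart p (w ^ k)) := ⟨j, hj ▸ pow_orderOf_eq_one _⟩
  obtain ⟨i, hi⟩ := pPart_mem_zpowers p (w ^ k)
  refine h11.pair (h11.conj g) ?_
  rw [← hi, ← conj_zpow]
  exact (h9 g).zpow_zpow i i

end Cfsg.Lib.LinP
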