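import Cfsg.Agent.Lib.LinP.Feit
import Cfsg.Agent.Lib.Alex.Cond

/-!
# Principal blocks with a self-centralizing defect group of prime order
-/

set_option autoImplicit false

namespace Cfsg.Lib.LinP

open Cfsg.Lib.Char Cfsg.Lib.Small Cfsg.Lib.Cyc Cfsg.Lib.Block Subgroup Finset
open scoped ComplexConjugate

variable {G : Type*} [Group G] [Finite G] {p q e t x y z : ℕ} {S Y : Finset (IrrCharacter G)}
  {a : IrrCharacter G → ℤ} {α β δ : ℤ} {ξ η θ : IrrCharacter G} {g u w : G} {φ : G → ℂ}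

theorem exists_central [hq : Fact q.Prime] (h : q ∣ Nat.card G) :
    ∃ z : G, orderOf z = q ∧ ¬ q ∣ (centralizer ({z} : Set G)).index := by
  obtain ⟨P⟩ : Nonempty (Sylow q G) := inferInstance
  have := (nontrivial_iff_ne_bot _).2 (sylow_ne_bot h P)
  obtain ⟨z, -, h1, h2⟩ := PGroup.exists_mem_center_orderOf_eq P.2 ⊤ top_ne_bot
  exact ⟨z, (orderOf_coe z).trans h2, fun e => P.not_dvd_index (e.trans (index_dvd_of_le fun b hb =>
    mem_centralizer_singleton_iff.2 (congrArg Subtype.val (mem_center_iff.1 h1 ⟨b, hb⟩))))⟩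

theorem cc [hq : Fact q.Prime] {M : Ideal AlgInt} [Modular q M] (hξ : ξ ∈ principalBlock M G)
    (hu : ¬ q ∣ (centralizer ({u} : Set G)).index) {c : ℤ} (hc : (ξ : G → ℂ) u = c) {k : ℕ}
    (hk : q ^ k ∣ charDegree (ξ : G → ℂ)) : (q : ℤ) ^ (k + 1) ∣ c - charDegree (ξ : G → ℂ) := by
  have h0 : (charDegree (ξ : G → ℂ) : ℤ) ≠ 0 := Nat.cast_ne_zero.2 ξ.2.charDegree_pos.ne'
  have h1 := ξ.2.isIntegral_centralChar u
  have h2 := (memLocalIdeal_iff.1 (hξ u)).2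
  rw [centralChar_one] at h2
  rw [centralChar_def, hc, ξ.2.apply_one_eq] at h1 h2
  obtain ⟨m, hm⟩ := int_dvd_of_isIntegral_div (a := (centralizer ({u} : Set G)).index * c) h0
    (by exact_mod_cast h1)
  have h3 : ((centralizer ({u} : Set G)).index : ℂ) * c / charDegree (ξ : G → ℂ) = m := by
    rw [div_eq_iff (by exact_mod_cast h0), mul_comm (m : ℂ)]
    exact_mod_cast hm
  rw [h3, ← Int.cast_natCast, ← Int.cast_sub, red_intCast_eq_zero_iff] at h2
  refine ((Nat.isCoprime_iff_coprime.2 (hq.out.coprime_iff_not_dvd.2 hu)).pow_left).dvd_of_dvd_mul_left ?_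
  rw [mul_sub, hm, mul_comm _ m, ← sub_mul, pow_succ']
  exact mul_dvd_mul (dvd_sub_comm.1 h2) (by exact_mod_cast hk)

theorem exists_int_of_deg (h : PB0 p e t S Y a δ) (hξ : ξ ∈ S) (h1 : ∀ ψ, ψ ∈ S ∨ ψ ∈ Y →
    charDegree (ψ : G → ℂ) = charDegree (ξ : G → ℂ) → ψ = ξ) (g : G) :
    ∃ n : ℤ, (ξ : G → ℂ) g = n := by
  refine exists_int_of_forall_ringEquiv (ξ.2.isIntegral g) fun σ => ?_
  obtain ⟨k, hk, h2⟩ := exists_pow_forall_map_apply G (σ : ℂ →+* ℂ)
  let ψ : IrrCharacter G := ⟨_, ξ.2.comp_pow hk⟩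
  exact (h2 _ ξ.2.isGeneralizedCharacter g).trans (congrFun (congrArg Subtype.val (h1 ψ
    (h.comp_pow_mem (.inl hξ) hk fun _ => rfl) (charDegree_congr (by simp [ψ])))) g)

theorem decompose [Fintype G] (h : PB0 p e t S Y a δ) (hθ : θ ∈ Y) (hw : orderOf w = p)
    (hC : Nat.card (centralizer ({w} : Set G)) = p) (hφ : IsCharacter G φ) :
    ∃ (n : IrrCharacter G → ℕ) (N : ℕ) (ρ : G → ℂ), 
      (∀ ψ : IrrCharacter G, classInner φ (ψ : G → ℂ) = n ψ) ∧
      IsCharacter G ρ ∧ (∀ ψ, IsIrrCharacter G ψ → classInner ρ ψ ≠ 0 → p ∣ charDegree ψ) ∧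
      (∀ g, ¬ p ∣ orderOf g → φ g = ∑ ψ ∈ S, n ψ * (ψ : G → ℂ) g + N * (θ : G → ℂ) g + ρ g) ∧
      (p : ℤ) * fixDim φ (zpowers w) = charDegree φ + (p - 1) * ∑ ψ ∈ S, n ψ * a ψ + e * δ * N := by
  classical
  obtain ⟨n, rfl⟩ := hφ.exists_eq_sum_nat
  have hR : Nat.card (zpowers w) = p := (Nat.card_zpowers w).trans hw
  have := Fintype.ofFinite (zpowers w)
  refine ⟨n, ∑ ψ ∈ Y, n ψ, ∑ ψ ∈ (S ∪ Y)ᶜ, (n ψ : ℂ) • (ψ : G → ℂ), classInner_sum_smul_irr _,
    isCharacter_sum _ _ fun ψ _ => ψ.2.isCharacter.natCast_smul _, fun ψ hψ h1 => ?_,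
    fun g hg => ?_, ?_⟩
  · by_contra h2
    refine h1 ?_
    rw [classInner_sum_left]
    refine sum_eq_zero fun χ hχ => ?_
    rw [classInner_smul_left, χ.2.inner_eq_zero_of_ne hψ, mul_zero]
    rintro rfl
    exact mem_compl.1 hχ (mem_union.2 (h.mem_of_not_dvd hw hC h2))
  · rw [Finset.sum_apply, h.sum_eq, Finset.sum_apply, Nat.cast_sum, sum_mul,
      sum_congr (s₁ := Y) rfl fun ψ hψ => by rw [Pi.smul_apply, smul_eq_mul, h.reg_eq hθ hψ hg]]
    rfl
  · have h1 : ∀ ψ : IrrCharacter G, ∑ v : zpowers w, (ψ : G → ℂ) v =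
        ((p * fixDim (ψ : G → ℂ) (zpowers w) : ℤ) : ℂ) := fun ψ => by
      rw [← card_mul_fixDim ψ.2.isCharacter, hR]
      push_cast
      rfl
    have h2 := card_mul_fixDim (A := zpowers w) hφ
    have h3 := hφ.apply_one_eq
    generalize fixDim (∑ ψ : IrrCharacter G, (n ψ : ℂ) • (ψ : G → ℂ)) (zpowers w) = F at h2 ⊢
    generalize charDegree (∑ ψ : IrrCharacter G, (n ψ : ℂ) • (ψ : G → ℂ)) = D at h3 ⊢
    simp only [Finset.sum_apply, Pi.smul_apply, smul_eq_mul] at h2 h3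
    rw [sum_comm, hR, sum_congr rfl fun ψ _ => by rw [← mul_sum, h1], h.sum_eq,
      sum_congr (s₁ := S) rfl fun ψ hψ => by rw [h.fixS hψ hR],
      sum_congr (s₁ := Y) rfl fun ψ hψ => by rw [h.fixY hψ hR],
      sum_congr (s₁ := (S ∪ Y)ᶜ) rfl fun ψ hψ => by
        rw [← Nat.cast_mul, h.fix_of_notMem hw hC (fun e => by simp [e] at hψ)
          fun e => by simp [e] at hψ]] at h2
    rw [h.sum_eq] at h3
    simp only [fun ψ : IrrCharacter G => ψ.2.apply_one_eq] at h3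
    refine Int.cast_injective (α := ℂ) ?_
    push_cast at h2 ⊢
    simp only [mul_add, sum_add_distrib, mul_left_comm _ ((p : ℂ) - 1), ← mul_sum, ← sum_mul] at h2
    linear_combination h2 + h3

theorem mul_fixDim_le_of_pb (h : PB0 p e t S Y a δ) (hw : orderOf w = p)
    (hC : Nat.card (centralizer ({w} : Set G)) = p) (ψ : IrrCharacter G) :
    p * fixDim (ψ : G → ℂ) (zpowers w) + 1 ≤ charDegree (ψ : G → ℂ) + p := by
  have hR : Nat.card (zpowers w) = p := (Nat.card_zpowers w).trans hw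
  have h0 := h.prime.pos
  by_cases h1 : ψ ∈ S
  · have h2 := h.fixS h1 hR
    zify
    rcases h.signS ψ h1 with e | e <;> rw [e] at h2 <;> omega
  by_cases h2 : ψ ∈ Y
  · have h3 := h.fixY h2 hR
    have h4 := h.mul_add_one
    have h5 := Nat.le_mul_of_pos_right e h.t_pos
    zify
    rcases h.sign with e | e <;> rw [e] at h3 <;> omega
  · have := h.fix_of_notMem hw hC h1 h2
    omega

theorem cs {x y a b : ℝ} (hx : 0 < x) (hy : 0 < y) (h : a ≠ x) :
    (1 + a + b) ^ 2 / (1 + x + y) < 1 + a ^ 2 / x + b ^ 2 / y := by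
  have h1 : 0 < (a - x) ^ 2 := sq_pos_of_ne_zero (sub_ne_zero.2 h)
  have h2 : 1 + a ^ 2 / x + b ^ 2 / y - (1 + a + b) ^ 2 / (1 + x + y) =
      (y * (a - x) ^ 2 + x * (b - y) ^ 2 + (a * y - b * x) ^ 2) / (x * y * (1 + x + y)) := by
    field_simp
    ring
  rw [← sub_pos, h2]
  positivity

/-- The principal block has the characters `1`, `ξ`, `η` and the exceptional ones. -/
structure Th (p t x y z : ℕ) (S Y : Finset (IrrCharacter G)) (a : IrrCharacter G → ℤ) (α β δ : ℤ)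
    (ξ η θ : IrrCharacter G) (w : G) : Prop extends PB p 3 t S Y a δ where
  hS : ∀ (R : Type) [AddCommMonoid R] (F : IrrCharacter G → R),
    ∑ ψ ∈ S, F ψ = F (irrOne G) + F ξ + F η
  cases : ∀ ψ ∈ S, ψ = irrOne G ∨ ψ = ξ ∨ ψ = η
  mem₁ : ξ ∈ S
  mem₂ : η ∈ S
  ne₁ : ξ ≠ irrOne G
  ne₂ : η ≠ irrOne G
  sgn₁ : a ξ = α
  sgn₂ : a η = β
  le : β ≤ α
  mem : θ ∈ Y
  ord : orderOf w = p
  cent : Nat.card (centralizer ({w} : Set G)) = p
  dx : charDegree (ξ : G → ℂ) = x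
  dy : charDegree (η : G → ℂ) = y
  dz : charDegree (θ : G → ℂ) = z

theorem exists_th (h : PB p 3 t S Y a δ) (hw : orderOf w = p)
    (hC : Nat.card (centralizer ({w} : Set G)) = p) :
    ∃ x y z α β ξ η θ, Th p t x y z S Y a α β δ ξ η θ w := by
  classical
  obtain ⟨θ, hθ⟩ := h.nonempty
  obtain ⟨ξ, η, h1, h2⟩ := card_eq_two.1 (Nat.succ_injective h.card_erase)
  wlog h3 : a η ≤ a ξ generalizing ξ η
  · exact this η ξ h1.symm (h2.trans (pair_comm _ _)) (le_of_not_ge h3)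
  have h4 : ξ ∈ S.erase (irrOne G) := by simp [h2]
  have h5 : η ∈ S.erase (irrOne G) := by simp [h2]
  exact ⟨_, _, _, _, _, ξ, η, θ, h, fun R _ F => by
      rw [← add_sum_erase _ _ h.one_mem, h2, sum_pair h1, add_assoc],
    fun ψ hψ => or_iff_not_imp_left.2 fun e => by simpa [h2] using mem_erase.2 ⟨e, hψ⟩,
    mem_of_mem_erase h4, mem_of_mem_erase h5, ne_of_mem_erase h4, ne_of_mem_erase h5, rfl, rfl, h3,
    hθ, hw, hC, rfl, rfl, rfl⟩

namespace Th

variable (h : Th p t x y z S Y a α β δ ξ η θ w)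
include h

theorem reg1 (hg : ¬ p ∣ orderOf g) :
    1 + α * (ξ : G → ℂ) g + β * (η : G → ℂ) g + δ * (θ : G → ℂ) g = 0 := by
  have h1 := h.reg θ h.mem g hg
  rw [h.hS, h.a_one, h.sgn₁, h.sgn₂] at h1
  simpa using h1

theorem deg : 1 + α * x + β * y + δ * z = 0 := by
  have := h.reg1 h.not_dvd_one
  rw [ξ.2.apply_one_eq, η.2.apply_one_eq, θ.2.apply_one_eq, h.dx, h.dy, h.dz] at this
  exact_mod_cast this

theorem pairs (hu : ¬ p ∣ orderOf u) : ∃ r : ℝ, 0 ≤ r ∧ (orderOf u = 2 → r = 0) ∧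
    (r : ℂ) = 1 + α * (ξ : G → ℂ) u ^ 2 / x + β * (η : G → ℂ) u ^ 2 / y +
      δ * (θ : G → ℂ) u ^ 2 / z := by
  classical
  have h1 := card_class_mul_eq u u w
  rw [h.sum_eq, sum_eq_zero (s := (S ∪ Y)ᶜ) fun χ hχ => by
      rw [h.apply_eq_zero h.ord h.cent (fun e => by simp [e] at hχ) fun e => by simp [e] at hχ]
      simp,
    sum_congr (s₁ := Y) rfl (g := fun η => conj ((η : G → ℂ) w) *
      ((θ : G → ℂ) u * (θ : G → ℂ) u / (θ : G → ℂ) 1)) fun η hη => by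
        rw [h.reg_eq h.mem hη hu, h.reg_eq h.mem hη h.not_dvd_one]; ring,
    ← sum_mul, ← map_sum, h.singY w h.ord.symm.dvd, h.hS, h.singS ξ h.mem₁ w h.ord.symm.dvd,
    h.singS η h.mem₂ w h.ord.symm.dvd, h.sgn₁, h.sgn₂, θ.2.apply_one_eq, ξ.2.apply_one_eq,
    η.2.apply_one_eq, h.dx, h.dy, h.dz] at h1
  have h2 : ((centralizer ({u} : Set G)).index : ℂ) ≠ 0 := Nat.cast_ne_zero.2 index_ne_zero_of_finite
  have h3 := card_ne_zero_complex G
  refine ⟨Nat.card {q : G × G // IsConj u q.1 ∧ IsConj u q.2 ∧ q.1 * q.2 = w} * Nat.card G /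
    (centralizer ({u} : Set G)).index ^ 2, by positivity, fun h4 => ?_, ?_⟩
  · suffices IsEmpty {q : G × G // IsConj u q.1 ∧ IsConj u q.2 ∧ q.1 * q.2 = w} by
      rw [Nat.card_of_isEmpty]; simp
    refine ⟨fun ⟨⟨b, c⟩, h5, h6, h7⟩ => ?_⟩
    have h8 := (orderOf_eq_of_isConj h5).symm.trans h4
    have h9 : b * b = 1 := by rw [← pow_two, ← h8, pow_orderOf_eq_one]
    have h10 : c * c = 1 := by
      rw [← pow_two, ← (orderOf_eq_of_isConj h6).symm.trans h4, pow_orderOf_eq_one]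
    have h11 : b * w * b⁻¹ = w⁻¹ := by
      rw [← h7, ← mul_assoc, h9, one_mul, mul_inv_rev, inv_eq_of_mul_eq_one_right h10]
    have h12 := orderOf_dvd_natCard _ (PGroup.mem_normalizer_zpowers (k := -1)
      (h11.trans (zpow_neg_one w).symm))
    rw [h8, h.card_normalizer h.ord, h.cent] at h12
    have h13 := h.mul_add_one
    have h14 := (Nat.prime_dvd_prime_iff_eq Nat.prime_two h.prime).1
      ((Nat.Coprime.dvd_mul_left (by norm_num)).1 h12)
    omega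
  · push_cast
    rw [h1]
    simp only [irrOne_apply, map_intCast, map_one]
    field_simp
    ring

theorem signs [IsSimpleGroup G] (h2 : 2 ∣ Nat.card G) :
    β = -1 ∧ (α = -1 ∧ δ = 1 ∨ α = 1 ∧ δ = -1) := by
  obtain ⟨u, hu⟩ := exists_prime_orderOf_dvd_card' 2 h2
  have h3 : ¬ p ∣ orderOf u := fun e => by
    have := (Nat.prime_dvd_prime_iff_eq h.prime Nat.prime_two).1 (hu ▸ e)
    have := h.mul_add_one
    omega
  have h4 : ∀ ψ : IrrCharacter G, ψ ≠ irrOne G → ∃ n : ℤ, (ψ : G → ℂ) u = n ∧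
      (n : ℝ) ≠ charDegree (ψ : G → ℂ) := fun ψ hψ => by
    obtain ⟨n, hn⟩ := ψ.2.isGeneralizedCharacter.exists_int_of_sq_eq_one (hu ▸ pow_orderOf_eq_one u)
    refine ⟨n, hn, fun e => Nat.prime_two.ne_one (hu.symm.trans (orderOf_eq_one_iff.2 (mem_bot.1
      (ψ.2.charKer_eq_bot_of_isSimpleGroup (fun e => hψ (Subtype.ext e)) ▸
        ψ.2.isCharacter.mem_charKer_iff.2 ?_))))⟩
    rw [hn, ψ.2.apply_one_eq]
    exact_mod_cast e
  obtain ⟨b, b1, b2⟩ := h4 ξ h.ne₁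
  obtain ⟨c, c1, c2⟩ := h4 η h.ne₂
  obtain ⟨d, d1, -⟩ := h4 θ (h.ne_one h.mem)
  obtain ⟨r, -, h5, h6⟩ := h.pairs h3
  have h7 := h.reg1 h3
  have h8 := h.deg
  rw [h5 hu] at h6
  rw [b1, c1, d1] at h6 h7
  rw [h.dx] at b2
  rw [h.dy] at c2
  have h9 : (0 : ℝ) = 1 + α * b ^ 2 / x + β * c ^ 2 / y + δ * d ^ 2 / z := by exact_mod_cast h6
  have h10 : (1 : ℝ) + α * b + β * c + δ * d = 0 := by exact_mod_cast h7
  have h11 : (1 : ℝ) + α * x + β * y + δ * z = 0 := by exact_mod_cast h8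
  have hx : 0 < x := h.dx ▸ ξ.2.charDegree_pos
  have hy : 0 < y := h.dy ▸ η.2.charDegree_pos
  have hz : 0 < z := h.dz ▸ θ.2.charDegree_pos
  have h12 := h.le
  rcases h.sgn₁ ▸ h.signS ξ h.mem₁ with rfl | rfl <;> rcases h.sgn₂ ▸ h.signS η h.mem₂ with
    rfl | rfl <;> rcases h.sign with rfl | rfl <;> try omega
  · have := cs (b := c) (Nat.cast_pos.2 hx) (Nat.cast_pos.2 hy) b2
    push_cast at h9 h10 h11
    rw [show (1 : ℝ) + b + c = d by linarith, show (1 : ℝ) + x + y = z by linarith] at this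
    simp only [one_mul, neg_mul, neg_div] at h9
    linarith
  · have := cs (b := d) (Nat.cast_pos.2 hx) (Nat.cast_pos.2 hz) b2
    push_cast at h9 h10 h11
    rw [show (1 : ℝ) + b + d = c by linarith, show (1 : ℝ) + x + z = y by linarith] at this
    simp only [one_mul, neg_mul, neg_div] at h9
    linarith

open Classical in
theorem bt' [Fact q.Prime] (M : Ideal AlgInt) [Modular q M] (hpq : p ≠ q) :
    (q : ℤ) ^ (Nat.card G).factorization q ∣ 1 + (if ξ ∈ principalBlock M G then α * x else 0) +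
      (if η ∈ principalBlock M G then β * y else 0) +
        if θ ∈ principalBlock M G then δ * z else 0 := by
  have h1 := h.bt h.mem M hpq (fun g hg => by
    have h1 := orderOf_eq_of_selfCent h.toPB0 h.ord h.cent (hg ▸ dvd_mul_right p q)
    exact (Fact.out : q.Prime).ne_one (Nat.eq_of_mul_eq_mul_left h.prime.pos (by omega)))
    isPBlock_principalBlock fun θ' hθ' => h.mem_principal_iff M h.mem hθ'
  rwa [sum_filter, h.hS, if_pos irrOne_mem_principalBlock, h.a_one, h.sgn₁, h.sgn₂, h.dx, h.dy, h.dz,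
    coe_irrOne, charDegree_one, Nat.cast_one, mul_one] at h1

end Th

end Cfsg.Lib.LinP
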