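import Cfsg.Agent.Lib.LinP.P7

/-!
# Irreducible linear groups of degree less than 27 with a prime divisor exceeding the degree by two
-/

set_option autoImplicit false

namespace Cfsg.Lib.LinP

open Module Cfsg.Lib.Char Cfsg.Lib.Small Cfsg.Lib.Cyc Cfsg.Lib.Core Cfsg.Lib.Loc Subgroup
open scoped MatrixGroups IsMulCommutative

variable {G : Type*} [Group G] [Finite G] {p : ℕ} [hp : Fact p.Prime] {χ : G → ℂ}

/-- The exceptional groups. -/
def Out (G : Type*) [Group G] (p d : ℕ) [Fact p.Prime] : Prop :=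
  (Nonempty (G ⧸ center G ≃* PSL(2, ZMod p)) ∧ (2 * d = p + 1 ∨ 2 * d = p - 1)) ∨
  (p = 17 ∧ d = 15 ∧ ∃ (A : Type) (_ : CommGroup A) (_ : Finite A),
    Nonempty (G ≃* SL(2, GaloisField 2 4) × A)) ∨
  (p = 7 ∧ d = 4 ∧ Nonempty (G ⧸ center G ≃* alternatingGroup (Fin 7))) ∨
  (p = 5 ∧ d = 3 ∧ Nonempty (G ⧸ center G ≃* alternatingGroup (Fin 6)))

theorem card_eq_of_not_sq (P : Sylow p G) (hsq : ¬ p ^ 2 ∣ Nat.card G)
    (hn : ¬ (P : Subgroup G).Normal) : Nat.card P = p := by
  obtain ⟨k, hk⟩ := P.2.exists_card_eq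
  rcases k with _ | _ | k
  · exact absurd (card_eq_one.1 hk ▸ normal_bot) hn
  · exact hk.trans (pow_one p)
  · exact absurd ((pow_dvd_pow p (by omega)).trans (hk ▸ card_subgroup_dvd_card _)) hsq

theorem not_normal_quot (P : Sylow p G) (hn : ¬ (P : Subgroup G).Normal) {D : Subgroup G} [D.Normal]
    (hD : D ≤ center G) : ¬ (P.mapSurjective (QuotientGroup.mk'_surjective D) :
      Subgroup (G ⧸ D)).Normal := fun h => hn ⟨fun y hy g => by
  obtain ⟨a, ha, e⟩ := h.conj_mem _ (mem_map_of_mem _ hy) (g : G ⧸ D)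
  have h1 : a⁻¹ * (g * y * g⁻¹) ∈ center G := hD (QuotientGroup.eq.1 e)
  have h2 := ((pe_of_mem P.2 (inv_mem ha)).pair ((pe_of_mem P.2 hy).conj g) (by
    have := mem_center_iff.1 h1 a⁻¹
    rwa [mul_assoc a⁻¹, mul_right_inj] at this))
  exact (mul_mem_cancel_left (inv_mem ha)).1 (pCore_le_sylow P (mem_pCore_of_center h1
    (pe_of_mem h2 (mul_mem (subset_closure (by simp)) (subset_closure (by simp))))))⟩

theorem hom_eq_one (hχ : IsCharacter G χ) (hf : ∀ g, χ g = χ 1 → g = 1) (hd : charDegree χ + 2 ≤ p)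
    (P : Sylow p G) (hsq : ¬ p ^ 2 ∣ Nat.card G) (hn : ¬ (P : Subgroup G).Normal) {Q : Type*}
    [Group Q] (f : G →* Q) (h : ∀ g, PE p (f g)) (g : G) : f g = 1 := by
  have := Finite.of_surjective _ f.rangeRestrict_surjective
  obtain ⟨k, hk⟩ := IsPGroup.exists_card_eq (p := p) (G := f.range) (by
    rintro ⟨_, g, rfl⟩
    exact (h g).imp fun k hk => Subtype.ext hk)
  rw [← index_ker] at hk
  rcases k with _ | k
  · exact MonoidHom.mem_ker.1 ((index_eq_one.1 hk).ge (mem_top g))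
  refine absurd (normalizer_eq_top_iff.1 (top_le_iff.1 ((sup_eq_top_of_coprime_index
    (A := f.ker) (B := P) (hk ▸ (hp.out.coprime_iff_not_dvd.2 P.not_dvd_index).pow_left _)).ge.trans
      (sup_le ((le_centralizer_of_small P (card_eq_of_not_sq P hsq hn) hχ hf hd fun e => hsq ?_).trans
        (centralizer_le_normalizer _)) le_normalizer)))) hn
  rw [← f.ker.card_mul_index, hk, sq]
  exact mul_dvd_mul e (dvd_pow_self p k.succ_ne_zero)

theorem core (hχ : IsIrrCharacter G χ) (hf : ∀ g, χ g = χ 1 → g = 1) (h27 : charDegree χ < 27)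
    (hd : charDegree χ + 2 ≤ p) (P : Sylow p G) (hsq : ¬ p ^ 2 ∣ Nat.card G)
    (hn : ¬ (P : Subgroup G).Normal) : Out G p (charDegree χ) := by
  have hP := card_eq_of_not_sq P hsq hn
  have h3 : 3 < p := not_le.1 fun e => hn (normal_of_small hχ.isCharacter hf (by omega) P)
  obtain ⟨x, h0, hx⟩ := Small.exists_mem_orderOf_eq_prime hp.out hP.symm.dvd
  have hR := eq_zpowers_of_card hP h0 fun e => hp.out.ne_one (by rw [← hx, e, orderOf_one])
  have a1 : charDegree χ + 2 = p → 5 < p → Out G p (charDegree χ) := fun h1 h2 => by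
    obtain ⟨a, F, _, _, h4, h5, ⟨e⟩⟩ := equiv_sl_prod (θ := ⟨χ, hχ⟩) P hP hn hf h1 h2
    have h6 : a < 5 := (Nat.pow_lt_pow_iff_right one_lt_two).1 (by omega)
    have h7 := hp.out
    obtain rfl : a = 4 := by
      interval_cases a <;> first | rfl | omega | exact absurd (h4 ▸ h7) (by norm_num)
    have := Fintype.ofFinite (GaloisField 2 4)
    have e' := FiniteField.ringEquivOfCardEq (K := F) (K' := GaloisField 2 4) (by
      rw [h5, Fintype.card_eq_nat_card, GaloisField.card 2 4 (by norm_num)])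
    exact .inr (.inl ⟨h4, by omega, Shrink.{0} (center G), inferInstance, inferInstance,
      ⟨e.trans (MulEquiv.prodCongr (Linear.congrSL (.refl _) e') (Shrink.mulEquiv).symm)⟩⟩)
  have a2 : 2 * charDegree χ + 1 ≠ p → ∀ e, e.Prime → charDegree χ + e = p →
      ∃ φ, Qs p e (charDegree χ) (x : G ⧸ center G) φ := fun h e h1 h2 => by
    obtain ⟨e', t, Y, h4, -, h5, h6⟩ := (irr_eig hχ hf hd hx hsq (hR ▸ hn) h3).resolve_left
      fun h4 => h h4.1
    obtain rfl : e' = e := Nat.add_left_cancel ((h5.deg _ h6).trans h2.symm)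
    exact exists_qs hχ hf hd hx hsq (hR ▸ hn) h3 h4 h1 h5 h6
  by_cases h7 : 7 < p
  · obtain h | ⟨e, h1, h2, h4, -⟩ := Blau.main h7 P hP hn hχ hf hd rfl
    · exact .inl ⟨h.1, h.2.1⟩
    generalize Nat.card _ = t at h2 h4
    have h5 := hp.out
    rcases e with _ | _ | _ | _ | _ | e
    · omega
    · omega
    · exact a1 h1 (by omega)
    · obtain rfl : p = 19 := by
        have h6 : t < 10 := by omega
        have := h4 le_rfl
        interval_cases t <;> first | omega | exact absurd (h2 ▸ h5) (by norm_num)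
      obtain ⟨φ, h⟩ := a2 (by omega) 3 Nat.prime_three h1
      exact ((show charDegree χ = 16 by omega) ▸ h).not_19.elim
    · have h6 : charDegree χ = 25 := by
        have h6 : t < 8 := by omega
        have := h4 (by omega)
        interval_cases t <;> first | omega | exact absurd (h2 ▸ h5) (by norm_num)
      obtain ⟨-, φ, b1, b2, b3, b4, -⟩ := twist hχ hf Nat.prime_two (by omega) _ rfl
      have b5 := not_normal_quot P hn (inf_le_right (a := pCore 2 G))
      obtain h | ⟨e, c1, -, -, c2⟩ := Blau.main h7 _ (card_eq_of_not_sq _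
        (fun e => hsq (e.trans (card_quotient_dvd_card _))) b5) b5 b1 b2 (by omega) rfl
      · omega
      refine absurd (c2 (Nat.not_even_iff_odd.1 fun c3 => ?_)) (by omega)
      obtain ⟨z, c4, c5⟩ := Small.exists_mem_orderOf_eq_prime Nat.prime_two c3.two_dvd
      obtain ⟨z, c6, rfl⟩ := b4.le c4
      obtain ⟨k, hk⟩ := pe_of_mem (pCore_isPGroup 2 G) (mem_inf.1 ((QuotientGroup.eq_one_iff (z ^ 2)).1
        (c5 ▸ pow_orderOf_eq_one ((QuotientGroup.mk' _) z)))).1
      exact Nat.prime_two.ne_one (c5.symm.trans (orderOf_eq_one_iff.2 ((QuotientGroup.eq_one_iff z).2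
        ⟨mem_pCore_of_center c6 ⟨k + 1, by rwa [pow_succ', pow_mul]⟩, c6⟩)))
    · have := Nat.mul_le_mul_left (e + 5) (h4 (by omega))
      nlinarith
  by_cases h : 2 * charDegree χ + 1 = p
  · exact .inl ⟨psl_of_half hχ hf h hx hsq (hR ▸ hn), .inr (by omega)⟩
  have h1 : ¬ _ := fun e => hn (normal_of_small hχ.isCharacter hf e P)
  obtain rfl | rfl : p = 5 ∨ p = 7 := by
    have h5 := hp.out
    interval_cases p <;> first | omega | exact absurd h5 (by norm_num)
  · have h2 : charDegree χ = 3 := by omega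
    obtain ⟨φ, h4⟩ := a2 h 2 Nat.prime_two (by omega)
    exact (h2 ▸ h4).five.elim (fun e => .inl ⟨e, by omega⟩) fun e => .inr (.inr (.inr ⟨rfl, h2, e⟩))
  · obtain h2 | h2 : charDegree χ = 4 ∨ charDegree χ + 2 = 7 := by omega
    · obtain ⟨φ, h4⟩ := a2 h 3 Nat.prime_three (by omega)
      exact (h2 ▸ h4).seven.elim (fun e => .inl ⟨e, by omega⟩) fun e => .inr (.inr (.inl ⟨rfl, h2, e⟩))
    · exact a1 h2 (by norm_num)

theorem pCore_le_center_of_irr (hχ : IsIrrCharacter G χ) (hf : ∀ g, χ g = χ 1 → g = 1)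
    (hd : charDegree χ + 2 ≤ p) (P : Sylow p G) (hn : ¬ (P : Subgroup G).Normal) :
    pCore p G ≤ center G := by
  have h3 : 3 < p := not_le.1 fun e => hn (normal_of_small hχ.isCharacter hf (by omega) P)
  obtain ⟨n, ρ, hi, rfl⟩ := id hχ
  have hρ : Function.Injective ρ := (injective_iff_map_eq_one ρ).2 fun g hg =>
    hf g ((character_eq_character_one_iff ρ g).2 hg)
  rw [charDegree_character] at hd
  have : (pElementClosure p (⊤ : Subgroup G)).Normal :=
    normalizer_eq_top_iff.1 (top_le_iff.1 (le_normalizer_pel _))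
  set Y := pElementClosure p (⊤ : Subgroup G)
  obtain ⟨x, hx⟩ := exists_gd (ρ := ρ.comp Y.subtype) (hρ.comp Y.subtype_injective) hd h3 (gen_pel _)
    (fun h => hn (P.is_maximal' h (le_pel le_top P.2) ▸ inferInstance))
    (feit (hχ.isCharacter.comp Y.subtype) (fun g hg => Subtype.ext (hf g hg))
      ((congrArg (· + 2) ((charDegree_congr rfl).trans (charDegree_character ρ))).trans_le hd))
  have h1 : ∀ z : pCore p G, ∃ ν : ℂ, ∀ v ∈ tt (ρ.comp Y.subtype) x, ρ z v = ν • v := fun z =>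
    hx.cent (ρ z) _ (orderOf_pos z.1).ne' (rep_pow rfl ρ) fun y => Commute.map
      (mem_centralizer_singleton_iff.1 ((gen_pel (p := p) ⊤ ((centralizer {z.1}).subgroupOf Y)
        fun a ha => mem_centralizer_singleton_iff.2
          (commute_of_pCore hρ (by omega) z.2 (ha.map Y.subtype)).symm).ge (mem_top y))).symm ρ
  choose ν hν using h1
  have h2 := hx.le
  generalize tt (ρ.comp Y.subtype) x = T at hν h2
  have h4 : ∀ (g : G) (z : pCore p G) v, (∀ z : pCore p G, ρ z v = ν z • v) →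
      ρ z (ρ g v) = ν ⟨g⁻¹ * z * g, (pCore_normal p G).conj_mem' _ z.2 g⟩ • ρ g v := fun g z v h => by
    rw [← map_smul, ← h, ← End.mul_apply, ← End.mul_apply, ← map_mul, ← map_mul]
    simp [mul_assoc]
  rcases eq_bot_or_top_of_isIrreducible ρ (⨅ z : pCore p G, End.eigenspace (ρ z) (ν z))
    (fun g v hv => by
      obtain ⟨_, ⟨u, h5, rfl⟩, h6, h7⟩ := exists_mem_inf (A := T.map (ρ g)) (B := T) (by
        rw [← (Submodule.equivMapOfInjective _ (Sz.apply_injective ρ g) T).finrank_eq]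
        omega)
      simp only [Submodule.mem_iInf, End.mem_eigenspace_iff] at hv ⊢
      intro z
      rw [h4 g z v hv, smul_left_injective ℂ h7 ((h4 g z u fun z => hν z u h5).symm.trans
        (hν z _ h6))]) with h | h
  · have : T = ⊥ := eq_bot_iff.2 (h ▸ le_iInf fun z v hv => End.mem_eigenspace_iff.2 (hν z v hv))
    rw [this, finrank_bot] at h2
    omega
  · refine fun z hz => mem_center_iff.2 fun g => hρ (LinearMap.ext fun v => ?_)
    have h5 := fun v => End.mem_eigenspace_iff.1 ((Submodule.mem_iInf _).1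
      (h.ge (Submodule.mem_top (x := v))) ⟨z, hz⟩)
    rw [map_mul, map_mul, End.mul_apply, End.mul_apply, h5, h5, map_smul]

theorem main (hχ : IsIrrCharacter G χ) (hf : ∀ g, χ g = χ 1 → g = 1) (h27 : charDegree χ < 27)
    (hd : charDegree χ + 2 ≤ p) (P : Sylow p G) :
    (P : Subgroup G).Normal ∨ Out G p (charDegree χ) := by
  refine or_iff_not_imp_left.2 fun hn => ?_
  have h1 := pCore_le_center_of_irr hχ hf hd P hn
  obtain ⟨lam, φ, h2, h3, h4, h5, h6, h7⟩ := twist hχ hf hp.out (fun e => by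
    have := Nat.le_of_dvd hχ.charDegree_pos e
    omega) (pCore p G) (inf_eq_left.2 h1).symm
  have h8 := not_normal_quot P hn h1
  have h9 := feit hχ.isCharacter hf hd
  have e := (QuotientGroup.quotientQuotientEquivQuotient _ _ h1).symm.trans
    (QuotientGroup.quotientMulEquivOfEq h5.symm)
  rw [← h4] at h27 hd ⊢
  obtain ⟨⟨e'⟩, h⟩ | ⟨b1, b2, A, _, _, ⟨e'⟩⟩ | ⟨b1, b2, ⟨e'⟩⟩ | ⟨b1, b2, ⟨e'⟩⟩ :=
    core h2 h3 h27 hd _ h9 h8
  · exact .inl ⟨⟨e.trans e'⟩, h⟩
  · have := Finite.of_surjective _ lam.rangeRestrict_surjective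
    refine .inr (.inl ⟨b1, b2, A × lam.range, inferInstance, inferInstance,
      ⟨((MulEquiv.ofBijective ((QuotientGroup.mk' _).prod lam.rangeRestrict) ⟨(injective_iff_map_eq_one _).2
        fun g hg => mem_bot.1 (h7.le ⟨(QuotientGroup.eq_one_iff g).1 (congrArg Prod.fst hg),
          congrArg Subtype.val (congrArg Prod.snd hg)⟩), ?_⟩).trans (e'.prodCongr (.refl _))).trans MulEquiv.prodAssoc⟩⟩)
    rintro ⟨g, _, a, rfl⟩
    obtain ⟨g, rfl⟩ := QuotientGroup.mk_surjective g
    obtain ⟨z, b3, b4⟩ := (QuotientGroup.eq_one_iff _).1 (hom_eq_one h2.isCharacter h3 hd _ h9 h8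
      (QuotientGroup.map _ ((pCore p G).map lam) lam (le_comap_map _ _)) (fun g => by
        obtain ⟨g, rfl⟩ := QuotientGroup.mk_surjective g
        exact (h6 g).map (QuotientGroup.mk' _)) (g⁻¹ * a : G))
    exact ⟨g * z, Prod.ext (QuotientGroup.mk_mul_of_mem g b3) (Subtype.ext (by simp [b4]))⟩
  · exact .inr (.inr (.inl ⟨b1, b2, ⟨e.trans e'⟩⟩))
  · exact .inr (.inr (.inr ⟨b1, b2, ⟨e.trans e'⟩⟩))

end Cfsg.Lib.LinP
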