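import Cfsg.Agent.Lib.Blau.Main
import Cfsg.Agent.Lib.CharDeg.FTSylow

/-!
# Eigenvalues of elements of order `p` in linear groups of degree less than `p - 1`
-/

set_option autoImplicit false

namespace Cfsg.Lib.LinP

open Finset Module Cfsg.Lib.Cyc Subgroup Cfsg.Lib.Char Cfsg.Lib.Blau
open scoped ComplexConjugate

section Lin

variable {V : Type*} [AddCommGroup V] [Module ℂ V] {T : End ℂ V} {n : ℕ} {μ : ℂ}

theorem exists_proj (hn : n ≠ 0) (hT : T ^ n = 1) (hμ : μ ^ n = 1) : ∃ π : End ℂ V,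
    LinearMap.IsProj (T.eigenspace μ) π ∧ π * (T - μ • 1) = 0 ∧
      (n : ℂ) • π = ∑ k ∈ range n, μ⁻¹ ^ k • T ^ k := by
  have h0 : μ ≠ 0 := fun e => by simp [e, hn] at hμ
  have h1 : (n : ℂ) ≠ 0 := Nat.cast_ne_zero.2 hn
  have h2 : (∑ k ∈ range n, (μ⁻¹ • T) ^ k) * (μ⁻¹ • T - 1) = 0 := by
    rw [geom_sum_mul, smul_pow, hT, inv_pow, hμ, inv_one, one_smul, sub_self]
  have h3 : (μ⁻¹ • T - 1) * (∑ k ∈ range n, (μ⁻¹ • T) ^ k) = 0 := by
    rw [mul_geom_sum, smul_pow, hT, inv_pow, hμ, inv_one, one_smul, sub_self]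
  have h4 : T - μ • 1 = μ • (μ⁻¹ • T - 1) := by rw [smul_sub, smul_inv_smul₀ h0]
  refine ⟨(n : ℂ)⁻¹ • ∑ k ∈ range n, (μ⁻¹ • T) ^ k, ⟨fun v => ?_, fun v hv => ?_⟩, ?_, ?_⟩
  · rw [End.mem_eigenspace_iff, ← sub_eq_zero]
    have := LinearMap.congr_fun (show (T - μ • 1) * ((n : ℂ)⁻¹ • ∑ k ∈ range n, (μ⁻¹ • T) ^ k) = 0
      by rw [h4, smul_mul_smul_comm, h3, smul_zero]) v
    rwa [End.mul_apply, LinearMap.sub_apply] at this
  · have h5 : ∀ k, ((μ⁻¹ • T) ^ k) v = v := fun k => by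
      induction k with
      | zero => rfl
      | succ k ih =>
        rw [pow_succ', End.mul_apply, ih, LinearMap.smul_apply, End.mem_eigenspace_iff.1 hv,
          inv_smul_smul₀ h0]
    rw [LinearMap.smul_apply, LinearMap.sum_apply, sum_congr rfl fun k _ => h5 k, sum_const,
      card_range, ← Nat.cast_smul_eq_nsmul ℂ, inv_smul_smul₀ h1]
  · rw [h4, smul_mul_smul_comm, h2, smul_zero]
  · rw [smul_inv_smul₀ h1]
    exact sum_congr rfl fun k _ => smul_pow _ _ _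

theorem pow_eq_one_of_eig (hT : T ^ n = 1) {v : V} (hv : v ∈ T.eigenspace μ) (h0 : v ≠ 0) :
    μ ^ n = 1 := smul_left_injective ℂ h0 (by
  have := End.HasEigenvector.pow_apply ⟨hv, h0⟩ n
  rw [hT] at this
  exact this.symm.trans (one_smul ℂ v).symm)

theorem eq_zero_of_eig (hn : n ≠ 0) (hT : T ^ n = 1) {v : V} (hv : v ∈ T.eigenspace μ)
    (h : v ∈ LinearMap.range (T - μ • 1)) : v = 0 := by
  by_contra h0
  obtain ⟨π, h1, h2, -⟩ := exists_proj hn hT (pow_eq_one_of_eig hT hv h0)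
  obtain ⟨w, rfl⟩ := h
  exact h0 ((h1.map_id _ hv).symm.trans (LinearMap.congr_fun h2 w))

theorem iSup_eig [FiniteDimensional ℂ V] (hn : n ≠ 0) (hT : T ^ n = 1) :
    ⨆ μ, T.eigenspace μ = ⊤ := by
  refine End.IsSemisimple.iSup_eigenspace_eq_top (End.isSemisimple_of_squarefree_aeval_eq_zero
    (Polynomial.separable_X_pow_sub_C (1 : ℂ) (n := n) (Nat.cast_ne_zero.2 hn)
      one_ne_zero).squarefree ?_)
  rw [map_sub, map_pow, Polynomial.aeval_X, Polynomial.aeval_C, map_one, hT, sub_self]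

theorem eq_of_eig [FiniteDimensional ℂ V] (hn : n ≠ 0) (hT : T ^ n = 1) {A B : End ℂ V}
    (h : ∀ μ, ∀ v ∈ T.eigenspace μ, A v = B v) : A = B :=
  LinearMap.eqLocus_eq_top.1 (top_le_iff.1 ((iSup_eig hn hT).ge.trans (iSup_le h)))

theorem finrank_eig_add [FiniteDimensional ℂ V] (T : End ℂ V) (μ : ℂ) :
    finrank ℂ (LinearMap.range (T - μ • 1)) + finrank ℂ (T.eigenspace μ) = finrank ℂ V := by
  rw [End.eigenspace_def]
  exact LinearMap.finrank_range_add_finrank_ker _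

theorem apply_mem_eig {S : End ℂ V} (h : Commute S T) {v : V} (hv : v ∈ T.eigenspace μ) :
    S v ∈ T.eigenspace μ := End.mem_eigenspace_iff.2 (by
  rw [← End.mul_apply, ← h.eq, End.mul_apply, End.mem_eigenspace_iff.1 hv, map_smul])

theorem apply_mem_range {S : End ℂ V} (h : Commute S T) {v : V} (hv : v ∈ LinearMap.range T) :
    S v ∈ LinearMap.range T := by
  obtain ⟨w, rfl⟩ := hv
  exact ⟨S w, by rw [← End.mul_apply, ← h.eq, End.mul_apply]⟩

theorem comm_of_finrank_le {W : Submodule ℂ V} [FiniteDimensional ℂ W] (hW : finrank ℂ W ≤ 1)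
    {A B : End ℂ V} (hA : ∀ v ∈ W, A v ∈ W) (hB : ∀ v ∈ W, B v ∈ W) {v : V} (hv : v ∈ W) :
    A (B v) = B (A v) := by
  obtain ⟨u, hu⟩ := finrank_le_one_iff.1 hW
  obtain ⟨a, ha⟩ := hu ⟨_, hA u u.2⟩
  obtain ⟨b, hb⟩ := hu ⟨_, hB u u.2⟩
  obtain ⟨c, hc⟩ := hu ⟨v, hv⟩
  have h1 : a • (u : V) = A u := congrArg Subtype.val ha
  have h2 : b • (u : V) = B u := congrArg Subtype.val hb
  obtain rfl : c • (u : V) = v := congrArg Subtype.val hc
  simp only [map_smul, ← h1, ← h2, smul_comm a b]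

theorem exists_mem_inf [FiniteDimensional ℂ V] {A B : Submodule ℂ V}
    (h : finrank ℂ V < finrank ℂ A + finrank ℂ B) : ∃ v ∈ A, v ∈ B ∧ v ≠ 0 := by
  have h1 := Submodule.finrank_sup_add_finrank_inf_eq A B
  have h2 := (A ⊔ B).finrank_le
  obtain ⟨v, hv, h0⟩ := (Submodule.ne_bot_iff (A ⊓ B)).1 fun e => by
    rw [e, finrank_bot] at h1
    omega
  exact ⟨v, hv.1, hv.2, h0⟩

end Lin

variable {G V : Type*} [Group G] [AddCommGroup V] [Module ℂ V] [FiniteDimensional ℂ V] {p : ℕ}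
  {x : G} {χ : G → ℂ}

theorem mul_finrank_eig (ρ : Representation ℂ G V) {n : ℕ} (hn : n ≠ 0) (hx : x ^ n = 1) {μ : ℂ}
    (hμ : μ ^ n = 1) : (n : ℂ) * finrank ℂ (End.eigenspace (ρ x) μ) =
      ∑ k ∈ range n, μ⁻¹ ^ k * ρ.character (x ^ k) := by
  obtain ⟨π, h1, -, h2⟩ := exists_proj (T := ρ x) hn (by rw [← map_pow, hx, map_one]) hμ
  rw [← h1.trace, ← smul_eq_mul, ← map_smul, h2, map_sum]
  exact sum_congr rfl fun k _ => by rw [map_smul, ← map_pow]; rfl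

variable [Finite G] [hp : Fact p.Prime]

theorem irr_eig (hχ : IsIrrCharacter G χ) (hf : ∀ g, χ g = χ 1 → g = 1) (hd : charDegree χ + 2 ≤ p)
    (hx : orderOf x = p) (hsq : ¬ p ^ 2 ∣ Nat.card G) (hn : ¬ (zpowers x).Normal) (h3 : 3 < p) :
    2 * charDegree χ + 1 = p ∧ (∃ J : Finset ℂ, (∀ ω ∈ J, ω ^ p = 1 ∧ ω ≠ 1) ∧
      ∀ k : ℕ, χ (x ^ k) = ∑ ω ∈ J, ω ^ k) ∨ ∃ e t Y, (centralizer (zpowers x : Set G)).relIndex
        (normalizer (zpowers x : Set G)) = e ∧ 2 * e < p ∧ Fam p (zpowers x) e t Y ∧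
          (⟨χ, hχ⟩ : IrrCharacter G) ∈ Y := by
  obtain ⟨P, hR⟩ := exists_sylow_eq_zpowers hx hsq
  have h1 : x ≠ 1 := fun e => hp.out.ne_one (by rw [← hx, e, orderOf_one])
  obtain ⟨e, he⟩ : ∃ e, (centralizer (zpowers x : Set G)).relIndex
    (normalizer (zpowers x : Set G)) = e := ⟨_, rfl⟩
  obtain ⟨h2, h4⟩ := small_dichotomy P (by rw [hR, Nat.card_zpowers, hx]) ⟨χ, hχ⟩
    (hR.ge (mem_zpowers x)) (mt (hf x) h1) hd (hR ▸ he)
  obtain ⟨m, J, h8, h9, h10, h11⟩ | ⟨t, Y, hF, hθ⟩ := h4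
  · obtain ⟨n, ρ, -, rfl⟩ := id hχ
    have hρ : Function.Injective ρ := (injective_iff_map_eq_one ρ).2 fun g hg =>
      hf g ((character_eq_character_one_iff ρ g).2 hg)
    have h5 := charDegree_character ρ
    obtain ⟨ψ, hψ⟩ := psl_of_eig ρ hρ hx hsq hn (h5 ▸ hd) (fun ω hω => (h10 ω hω).1) h11 (by omega) h3
    have h12 := he ▸ le_of_psl hx hsq ρ hρ (h5 ▸ hd) h3 hψ
    have h13 := hχ.charDegree_pos
    simp only at h8
    obtain rfl : m = 1 := by
      rcases m with _ | _ | m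
      · omega
      · rfl
      · rw [add_mul, add_mul] at h8
        omega
    exact .inl ⟨by omega, J, h10, fun k => (h11 k).trans (by simp)⟩
  · exact .inr ⟨e, t, Y, he, h2, hR ▸ hF, hθ⟩

theorem irr_eig' (hχ : IsIrrCharacter G χ) (hf : ∀ g, χ g = χ 1 → g = 1) (hd : charDegree χ + 2 ≤ p)
    (hx : orderOf x = p) (hsq : ¬ p ^ 2 ∣ Nat.card G) (hn : ¬ (zpowers x).Normal) (h3 : 3 < p) :
    ∃ (a : ℕ) (J : Finset ℂ), a ≤ 1 ∧ (∀ ω ∈ J, ω ^ p = 1 ∧ ω ≠ 1) ∧ p ≤ 2 * #J + 1 ∧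
      ∀ k : ℕ, χ (x ^ k) = a + ∑ ω ∈ J, ω ^ k := by
  classical
  obtain ⟨h1, J, h2, h4⟩ | ⟨e, t, Y, -, h1, hF, hθ⟩ := irr_eig hχ hf hd hx hsq hn h3
  · have h5 := h4 0
    simp only [pow_zero, sum_const, nsmul_one, hχ.apply_one_eq, Nat.cast_inj] at h5
    exact ⟨0, J, by omega, h2, by omega, fun k => (h4 k).trans (by simp)⟩
  have h0 := hp.out.ne_zero
  obtain ⟨J, h2, h4, h5⟩ := hF.val _ hθ x (mem_zpowers x) fun e =>
    hp.out.ne_one (by rw [← hx, e, orderOf_one])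
  have h6 : insert 1 J ⊆ mu p := insert_subset (one_mem_mu h0) fun ω hω => (mem_mu h0).2 (h4 ω hω).1
  have h7 : (1 : ℂ) ∉ J := fun h => (h4 1 h).2 rfl
  have h8 := card_sdiff_add_card_eq_card h6
  rw [card_mu h0, card_insert_of_notMem h7] at h8
  have h9 : charDegree χ + e = p := hF.deg _ hθ
  refine ⟨1, mu p \ insert 1 J, le_rfl, fun ω hω => ⟨pow_eq_one_of_mem_mu (mem_sdiff.1 hω).1,
    fun e => (mem_sdiff.1 hω).2 (e ▸ mem_insert_self _ _)⟩, by omega, fun k => ?_⟩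
  by_cases hk : p ∣ k
  · obtain ⟨k, rfl⟩ := hk
    rw [pow_mul, ← hx, pow_orderOf_eq_one, one_pow, hx, hχ.apply_one_eq, sum_congr rfl
      (g := fun _ => 1) fun ω hω => by rw [pow_mul, pow_eq_one_of_mem_mu (mem_sdiff.1 hω).1, one_pow],
      sum_const, nsmul_one]
    exact_mod_cast (by omega)
  · have h10 := sum_sdiff (f := fun ω => ω ^ k) h6
    rw [sum_mu_pow h0, if_neg hk, sum_insert h7] at h10
    refine (h5 k hk).trans ?_
    push_cast
    linear_combination (exp := 1) -h10 + (one_pow k : (1 : ℂ) ^ k = 1)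

omit hp in
theorem charDegree_add' {ψ : G → ℂ} (hχ : IsCharacter G χ) (hψ : IsCharacter G ψ) :
    charDegree (χ + ψ) = charDegree χ + charDegree ψ :=
  charDegree_eq_of_apply_one (by rw [Pi.add_apply, hχ.apply_one_eq, hψ.apply_one_eq, Nat.cast_add])

variable (hG : commutator G = ⊤) (hgen : normalClosure {x} = ⊤) (hx : orderOf x = p)
  (hsq : ¬ p ^ 2 ∣ Nat.card G) (h3 : 3 < p)
include hG hgen hx hsq h3

theorem char_eig (hχ : IsCharacter G χ) (hd : charDegree χ + 2 ≤ p) :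
    ∃ (a : ℕ) (J : Finset ℂ), (∀ ω ∈ J, ω ^ p = 1 ∧ ω ≠ 1) ∧ (J = ∅ ∨ p ≤ 2 * #J + 1) ∧
      ∀ k : ℕ, χ (x ^ k) = a + ∑ ω ∈ J, ω ^ k := by
  revert hd
  refine hχ.induction_on (P := fun χ => charDegree χ + 2 ≤ p → ∃ (a : ℕ) (J : Finset ℂ),
    (∀ ω ∈ J, ω ^ p = 1 ∧ ω ≠ 1) ∧ (J = ∅ ∨ p ≤ 2 * #J + 1) ∧ ∀ k : ℕ, χ (x ^ k) = a + ∑ ω ∈ J, ω ^ k)
    (fun _ => ⟨0, ∅, by simp, .inl rfl, fun k => by simp⟩) fun ψ φ hψ hφ ih hd => ?_
  rw [charDegree_add' hψ.isCharacter hφ] at hd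
  obtain ⟨a, J, h1, h2, h4⟩ := ih (by omega)
  by_cases h5 : ψ x = ψ 1
  · refine ⟨charDegree ψ + a, J, h1, h2, fun k => ?_⟩
    rw [Pi.add_apply, h4, hψ.isCharacter.mem_charKer_iff.1 (pow_mem
      (hψ.isCharacter.mem_charKer_iff.2 h5) k), hψ.apply_one_eq, Nat.cast_add, add_assoc]
  have := hψ.isCharacter.charKer_normal
  obtain ⟨ψ', h6, h7⟩ := hψ.exists_deflate (charKer ψ) fun g hg => hψ.isCharacter.mem_charKer_iff.1 hg
  have h8 : ψ' 1 = ψ 1 := h7 1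
  have h9 : (x : G ⧸ charKer ψ) ≠ 1 := fun e => h5 (by rw [← h7, e, h8])
  have hn : ¬ (zpowers (x : G ⧸ charKer ψ)).Normal := fun e => by
    have h13 : zpowers (x : G ⧸ charKer ψ) = ⊤ := by
      rw [eq_top_iff, ← map_top_of_surjective _ (QuotientGroup.mk'_surjective _), ← hgen,
        map_normalClosure _ _ (QuotientGroup.mk'_surjective _), Set.image_singleton]
      exact normalClosure_le_normal (by simp)
    have h14 := commutator_eq_top_of_surjective (QuotientGroup.mk'_surjective (charKer ψ)) hG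
    rw [_root_.commutator_def, ← h13, commutator_eq_bot_iff_le_centralizer.2 (le_centralizer _)] at h14
    exact h9 (mem_bot.1 (h14.ge (mem_zpowers _)))
  obtain ⟨b, J', -, h10, h11, h12⟩ := irr_eig' (x := (x : G ⧸ charKer ψ)) h6 (fun g hg => by
      obtain ⟨g, rfl⟩ := QuotientGroup.mk_surjective g
      exact (QuotientGroup.eq_one_iff g).2 (hψ.isCharacter.mem_charKer_iff.2 (by rw [← h7, hg, h8])))
    (by rw [charDegree_congr h8]; omega)
    (orderOf_eq_prime (by rw [← QuotientGroup.mk_pow, ← hx, pow_orderOf_eq_one]; rfl) h9)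
    (fun e => hsq (e.trans (card_quotient_dvd_card _))) hn h3
  have h13 := h4 0
  have h14 := h12 0
  simp only [pow_zero, sum_const, nsmul_one, h8, hψ.apply_one_eq, hφ.apply_one_eq] at h13 h14
  norm_cast at h13 h14
  obtain rfl : J = ∅ := h2.resolve_right (by omega)
  refine ⟨a + b, J', h10, .inr h11, fun k => ?_⟩
  rw [Pi.add_apply, h4, ← h7, QuotientGroup.mk_pow, h12]
  push_cast
  simp only [sum_empty]
  ring

omit [Finite G] [FiniteDimensional ℂ V] hp hG hgen hsq h3 in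
theorem rep_pow (ρ : Representation ℂ G V) : ρ x ^ p = 1 := by
  rw [← map_pow, ← hx, pow_orderOf_eq_one, map_one]

theorem eq_one_of_small (ρ : Representation ℂ G V) (hd : 2 * finrank ℂ V + 1 < p) : ρ x = 1 := by
  obtain ⟨a, J, -, h1, h2⟩ := char_eig hG hgen hx hsq h3 (isCharacter_character ρ)
    (by rw [charDegree_character]; omega)
  have h4 := h2 0
  simp only [pow_zero, sum_const, nsmul_one, Representation.char_one] at h4
  norm_cast at h4
  obtain rfl : J = ∅ := h1.resolve_right (by omega)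
  refine (character_eq_character_one_iff ρ x).1 ?_
  simpa using (h2 1).trans (h2 0).symm

theorem finrank_eig (ρ : Representation ℂ G V) (hd : finrank ℂ V + 2 ≤ p) (h1 : ρ x ≠ 1) :
    p ≤ 2 * finrank ℂ (LinearMap.range (ρ x - 1)) + 1 ∧
      ∀ ω, ω ≠ 1 → finrank ℂ (End.eigenspace (ρ x) ω) ≤ 1 := by
  classical
  obtain ⟨a, J, h0, h2, h4⟩ := char_eig hG hgen hx hsq h3 (isCharacter_character ρ)
    (by rwa [charDegree_character])
  have h5 : ∀ μ : ℂ, μ ^ p = 1 → finrank ℂ (End.eigenspace (ρ x) μ) =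
      (if μ = 1 then a else 0) + if μ ∈ J then 1 else 0 := fun μ hμ => by
    have h5 : μ ≠ 0 := fun e => by simp [e, hp.out.ne_zero] at hμ
    have h6 := mul_finrank_eig ρ hp.out.ne_zero (hx ▸ pow_orderOf_eq_one x) hμ
    simp only [h4, mul_add, mul_sum, sum_add_distrib, ← mul_pow] at h6
    rw [← sum_mul, sum_range_pow (by rw [inv_pow, hμ, inv_one]), sum_comm, sum_congr rfl fun ω hω =>
      sum_range_pow (by rw [mul_pow, inv_pow, hμ, inv_one, (h0 ω hω).1, one_mul])] at h6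
    simp only [inv_eq_one, inv_mul_eq_one₀ h5, sum_ite_eq] at h6
    refine Nat.cast_injective (R := ℂ) (mul_left_cancel₀ (Nat.cast_ne_zero.2 hp.out.ne_zero) ?_)
    rw [h6]
    split_ifs <;> simp [mul_add]
  refine ⟨?_, fun ω hω => ?_⟩
  · have h6 := finrank_eig_add (ρ x) 1
    have h7 := h4 0
    simp only [pow_zero, sum_const, nsmul_one, Representation.char_one] at h7
    norm_cast at h7
    rw [h5 1 (one_pow p), if_pos rfl, if_neg fun h => (h0 1 h).2 rfl, one_smul] at h6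
    refine (h2.resolve_left ?_).trans (by omega)
    rintro rfl
    refine h1 ((character_eq_character_one_iff ρ x).1 ?_)
    simpa using (h4 1).trans (h4 0).symm
  · rcases eq_or_ne (End.eigenspace (ρ x) ω) ⊥ with e | e
    · rw [e, finrank_bot]; omega
    obtain ⟨v, hv, h6⟩ := (Submodule.ne_bot_iff _).1 e
    rw [h5 ω (pow_eq_one_of_eig (rep_pow hx ρ) hv h6), if_neg hω]
    split_ifs <;> simp

end Cfsg.Lib.LinP
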