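import Cfsg.Agent.Lib.LinP.Twist

/-!
# Feit's theorem: linear groups of degree less than `p - 1`
-/

set_option autoImplicit false

namespace Cfsg.Lib.LinP

open Module Cfsg.Lib.Cyc Subgroup Cfsg.Lib.Char Cfsg.Lib.Core Cfsg.Lib.CharDeg Cfsg.Lib.Loc

variable {G : Type*} [Group G] [Finite G] {p n : ℕ} [hp : Fact p.Prime] {y : G}

omit [Finite G] in
theorem dvd_orderOf_of_pe {r : ℂ} {k : ℕ} (h : r ^ p ^ k = 1) (h1 : r ≠ 1) :
    p ∣ orderOf r ∧ orderOf r ≠ 0 := by
  obtain ⟨j, -, hj⟩ := (Nat.dvd_prime_pow hp.out).1 (orderOf_dvd_of_pow_eq_one h)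
  rw [hj]
  exact ⟨dvd_pow_self p (by rintro rfl; exact h1 (orderOf_eq_one_iff.1 hj)),
    pow_ne_zero _ hp.out.ne_zero⟩

theorem Gd.comm {V : Type*} [AddCommGroup V] [Module ℂ V] [FiniteDimensional ℂ V]
    {ρ : Representation ℂ G V} {x : G} (h : Gd p ρ x) {A B : End ℂ V} (hA : Commute A (ρ x))
    (hB : Commute B (ρ x)) {v : V} (hv : v ∈ tt ρ x) : A (B v) = B (A v) := by
  obtain ⟨w, rfl⟩ := hv
  refine LinearMap.congr_fun (eq_of_eig hp.out.ne_zero (rep_pow h.ord ρ) (A := A * B * (ρ x - 1))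
    (B := B * A * (ρ x - 1)) fun μ v hv => ?_) w
  by_cases hμ : μ = 1
  · simp [End.mem_eigenspace_iff.1 hv, hμ]
  · exact comm_of_finrank_le (h.simple μ hμ) (fun _ => apply_mem_eig hA) (fun _ => apply_mem_eig hB)
      (apply_mem_eig ((Commute.refl _).sub_left (Commute.one_left _)) hv)

variable {ρ : Representation ℂ G (Fin n → ℂ)} (hi : ρ.IsIrreducible) (hρ : Function.Injective ρ)
  (hd : finrank ℂ (Fin n → ℂ) + 2 ≤ p) (h3 : 3 < p) (hO : pCore p G = ⊥)
  (hI : ∀ Y : Subgroup G, Y ≠ ⊤ → ¬ p ^ 2 ∣ (pCore p Y).index)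
include hi hρ hd h3 hO hI

theorem not_big (hy : PE p y) (h1 : y ≠ 1) (μ : ℂ) :
    2 * finrank ℂ (End.eigenspace (ρ y) μ) ≤ finrank ℂ (Fin n → ℂ) := by
  by_contra! hb
  obtain ⟨g, hg⟩ := PLocal.exists_conj_not_isPGroup_of_not_mem_pCore (p := p) (x := y) (by simpa [hO])
  have a1 : finrank ℂ (End.eigenspace (ρ y) μ) ≤ finrank ℂ (End.eigenspace (ρ (g * y * g⁻¹)) μ) :=
    LinearMap.finrank_le_finrank_of_injective (f := (ρ g).restrict fun v hv =>
      End.mem_eigenspace_iff.2 (by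
        rw [← End.mul_apply, ← map_mul, inv_mul_cancel_right, map_mul, End.mul_apply,
          End.mem_eigenspace_iff.1 hv, map_smul])) fun u v h =>
      Subtype.ext (Sz.apply_injective ρ g (congrArg Subtype.val h))
  have a2 : ¬ Commute y (g * y * g⁻¹) := fun h => hg (hy.pair (hy.conj g) h)
  have a3 : closure {y, g * y * g⁻¹} ≠ ⊤ := fun e => by
    obtain ⟨v, hv, hv', h0⟩ := exists_mem_inf (A := End.eigenspace (ρ y) μ)
      (B := End.eigenspace (ρ (g * y * g⁻¹)) μ) (by omega)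
    have b1 : ∀ a ∈ closure {y, g * y * g⁻¹}, ∃ c : ℂ, ∀ v ∈ End.eigenspace (ρ y) μ ⊓
        End.eigenspace (ρ (g * y * g⁻¹)) μ, ρ a v = c • v := fun a ha => by
      induction ha using closure_induction with
      | mem a ha =>
        rcases ha with rfl | rfl
        · exact ⟨μ, fun v hv => End.mem_eigenspace_iff.1 hv.1⟩
        · exact ⟨μ, fun v hv => End.mem_eigenspace_iff.1 hv.2⟩
      | one => exact ⟨1, fun v _ => by simp⟩
      | mul a b _ _ ha hb =>
        obtain ⟨c, hc⟩ := ha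
        obtain ⟨d, hd⟩ := hb
        exact ⟨d * c, fun v hv => by rw [map_mul, End.mul_apply, hd v hv, map_smul, hc v hv, smul_smul]⟩
      | inv a _ ha =>
        obtain ⟨c, hc⟩ := ha
        refine ⟨c⁻¹, fun v hv => Sz.apply_injective ρ a ?_⟩
        rw [← End.mul_apply, ← map_mul, mul_inv_cancel, map_one, map_smul, hc v hv]
        by_cases h : c = 0
        · rw [Sz.apply_injective ρ a ((hc v hv).trans (by rw [h, zero_smul, map_zero]))]
          simp
        · simp [h]
    rcases eq_bot_or_top_of_isIrreducible ρ (End.eigenspace (ρ y) μ ⊓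
      End.eigenspace (ρ (g * y * g⁻¹)) μ) (fun a v hv => by
        obtain ⟨c, hc⟩ := b1 a (e.ge (mem_top a))
        exact hc v hv ▸ Submodule.smul_mem _ c hv) with h | h
    · exact h0 (h.le ⟨hv, hv'⟩)
    · refine a2 ((hρ (LinearMap.ext fun v => ?_) : y = g * y * g⁻¹) ▸ Commute.refl y)
      have := h.ge (Submodule.mem_top (x := v))
      rw [End.mem_eigenspace_iff.1 this.1, End.mem_eigenspace_iff.1 this.2]
  set Y := closure {y, g * y * g⁻¹}
  have a4 : Gen p Y := gen_closure (by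
    rintro _ (rfl | rfl)
    exacts [hy, hy.conj g])
  have a5 := hρ.comp Y.subtype_injective
  have a6 := pCore_le_center (ρ := ρ.comp Y.subtype) a5 (by omega) a4
  have a7 : y ∈ Y := subset_closure (by simp)
  obtain ⟨z, hz, x, hx, e⟩ := decomp (ρ := ρ.comp Y.subtype) a5 hd h3 a4 hg (hI Y a3) (hy.coe a7)
    fun h => a2 (congrArg Subtype.val (mem_center_iff.1 (a6 h) ⟨_, subset_closure (by simp)⟩)).symm
  have a8 : ∀ a : Y, Commute (ρ z) (ρ a) := fun a =>
    Commute.map (congrArg Subtype.val (mem_center_iff.1 (a6 hz) a).symm) ρ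
  obtain ⟨ν, hν⟩ := hx.cent (ρ z) _ (orderOf_pos z.1).ne' (rep_pow rfl ρ) a8
  have a9 := hx.le
  have a10 := hx.simple
  have a11 := hx.inv
  have a12 : ρ x ^ p = 1 := rep_pow hx.ord (ρ.comp Y.subtype)
  have a13 : ρ y = ρ z * ρ x := by rw [← map_mul, ← coe_mul, e]
  have a14 : ∀ v, ρ x v - v ∈ tt (ρ.comp Y.subtype) x := fun v => ⟨v, rfl⟩
  have a15 : ∀ v ∈ End.eigenspace (ρ x) 1, v ∈ tt (ρ.comp Y.subtype) x → v = 0 := fun v hv h =>
    eq_zero_of_eig hp.out.ne_zero a12 hv (by rwa [one_smul])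
  simp only [MonoidHom.comp_apply, coe_subtype] at a10 a11
  generalize tt (ρ.comp Y.subtype) x = T at *
  have b0 : T ≠ ⊥ := fun h => by rw [h, finrank_bot] at a9; omega
  obtain ⟨u, hu, b1⟩ := (Submodule.ne_bot_iff T).1 b0
  obtain ⟨k, hk⟩ := pe_of_mem (pCore_isPGroup p Y) hz
  have b2 : ν ^ p ^ k = 1 := pow_eq_one_of_eig (T := ρ z) (by
    rw [← map_pow, ← coe_pow, hk, coe_one, map_one]) (End.mem_eigenspace_iff.2 (hν u hu)) b1
  have b3 : ν ≠ 0 := fun h => by simp [h, hp.out.ne_zero] at b2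
  have b4 : End.eigenspace (ρ y) μ ⊓ T ≤ End.eigenspace (ρ x) (ν⁻¹ * μ) := fun v hv => by
    have := End.mem_eigenspace_iff.1 hv.1
    rw [a13, End.mul_apply, hν _ (by simpa using T.add_mem (a14 v) hv.2)] at this
    rw [End.mem_eigenspace_iff, mul_smul, ← this, inv_smul_smul₀ b3]
  obtain ⟨v, hv, hv', b5⟩ := exists_mem_inf (A := End.eigenspace (ρ y) μ) (B := T) (by omega)
  have b6 : ν⁻¹ * μ ≠ 1 := fun h => b5 (a15 v (h ▸ b4 ⟨hv, hv'⟩) hv')
  have b7 := (Submodule.finrank_mono b4).trans (a10 _ b6)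
  have b8 := Submodule.finrank_sup_add_finrank_inf_eq (End.eigenspace (ρ y) μ) T
  have b9 := (End.eigenspace (ρ y) μ ⊔ T).finrank_le
  have b10 : End.eigenspace (ρ y) μ ⊔ T = ⊤ := Submodule.eq_top_of_finrank_eq (by omega)
  have b11 : ∀ v, ρ z v - μ • v ∈ T := fun v => by
    obtain ⟨a, ha, b, hb, rfl⟩ := Submodule.mem_sup.1 (b10.ge (Submodule.mem_top (x := v)))
    have h4 := hν _ (a14 a)
    rw [map_sub, ← End.mul_apply, ← a13, End.mem_eigenspace_iff.1 ha] at h4
    rw [map_add, hν b hb, smul_add, add_sub_add_comm, ← neg_sub, h4, ← sub_smul]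
    exact T.add_mem (T.neg_mem (T.smul_mem _ (a14 a))) (T.smul_mem _ hb)
  have b12 : T ≠ ⊤ := fun h => by
    have := (congrArg (fun T : Submodule ℂ _ => finrank ℂ T) h).trans (finrank_top ℂ _)
    omega
  have b13 : (ν⁻¹ * μ) ^ p ^ 1 = 1 := by
    rw [pow_one]
    exact pow_eq_one_of_eig a12 (b4 ⟨hv, hv'⟩) b5
  obtain ⟨b14, b15⟩ := dvd_orderOf_of_pe b13 b6
  rcases (hp.out.five_le_of_ne_two_of_ne_three (by omega) (by omega)).eq_or_lt with rfl | h5
  · obtain ⟨t, ht, c1⟩ := a11 rfl (by omega)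
    change finrank ℂ (End.eigenspace (ρ t) (-1)) = 2 at c1
    have c2 : ∀ (a : Y), ∀ v ∈ T, ρ a v ∈ T := fun a v hv => by
      have h4 := b11 (ρ a v)
      rwa [← End.mul_apply, (a8 a).eq, End.mul_apply, hν v hv, map_smul, ← sub_smul,
        T.smul_mem_iff (sub_ne_zero.2 fun h => b6 (by rw [h, inv_mul_cancel₀ (h ▸ b3)]))] at h4
    let K : Subgroup Y :=
      { carrier := {a | ∀ v, ρ a v - v ∈ T}
        one_mem' := fun v => by simp
        mul_mem' := fun {a b} ha hb v => by simpa using T.add_mem (ha (ρ b v)) (hb v)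
        inv_mem' := fun {a} ha v => by simpa using T.neg_mem (ha (ρ (a : G)⁻¹ v)) }
    have : K.Normal := ⟨fun a ha b v => by simpa using c2 b _ (ha (ρ (b : G)⁻¹ v))⟩
    have c3 : ∀ v, ρ t v - v ∈ T := normalClosure_le_normal (N := K) (Set.singleton_subset_iff.2 a14) ht
    have c4 : End.eigenspace (ρ t) (-1) = T := Submodule.eq_of_le_of_finrank_le (fun v hv => by
      have h4 := c3 v
      rwa [End.mem_eigenspace_iff.1 hv, ← one_smul ℂ v, smul_smul, ← sub_smul,
        T.smul_mem_iff (by norm_num)] at h4) (by omega)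
    have c5 : ((-ν)⁻¹ * μ) ^ orderOf ((-ν)⁻¹ * μ) = 1 := pow_orderOf_eq_one _
    have c6 : orderOf ((-ν)⁻¹ * μ) ∣ 10 := orderOf_dvd_of_pow_eq_one (by
      rw [inv_neg, neg_mul, Even.neg_pow (by decide), show 10 = 5 ^ 1 * 2 from rfl, pow_mul, b13,
        one_pow])
    have c7 : 5 ∣ orderOf ((-ν)⁻¹ * μ) := (Nat.Coprime.dvd_mul_left (k := 5) (m := 2)
      (by norm_num)).1 (b14.trans (orderOf_dvd_of_pow_eq_one (by
        rw [pow_mul, ← neg_sq, ← neg_mul, ← inv_neg, ← pow_mul, mul_comm 2, pow_mul, c5, one_pow])))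
    refine two_eig ρ hρ (w := (t : G) * z) hO b0 b12 (α := -ν) (β := μ) (fun v hv => ?_) (fun v => ?_) ?_ c7
    · rw [map_mul, End.mul_apply, hν v hv, map_smul, End.mem_eigenspace_iff.1 (c4.ge hv)]
      simp
    · simpa [smul_sub] using T.add_mem (c2 t _ (b11 v)) (T.smul_mem μ (c3 v))
    · have c8 : orderOf ((-ν)⁻¹ * μ) ≠ 5 := fun h => by
        rw [h, inv_neg, neg_mul, Odd.neg_pow (by decide), ← pow_one 5, b13] at c5
        norm_num at c5
      have := Nat.le_of_dvd (by norm_num) c6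
      have := Nat.pos_of_dvd_of_pos c6 (by norm_num)
      omega
  · have h6 : p ≠ 6 := by rintro rfl; exact absurd hp.out (by decide)
    have := Nat.le_of_dvd (Nat.pos_of_ne_zero b15) b14
    exact two_eig ρ hρ hO b0 b12 hν b11 (by omega) b14

theorem not_sq_dvd (hg : Gen p G) (hP : ¬ IsPGroup p G) : ¬ p ^ 2 ∣ Nat.card G := fun hsq => by
  have := Fintype.ofFinite G
  have a0 : ∀ {g : G}, g ∉ center G → pElementClosure p (centralizer {g}) ≠ ⊤ := fun hg e =>
    hg (centralizer_eq_top_iff_subset.1 (top_le_iff.1 (e.ge.trans (pel_le _ _))) rfl)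
  have a1 : ∀ {Y : Subgroup G} {x : Y}, Gd p (ρ.comp Y.subtype) x → ∀ b : G, PE p b → ∀ ν : ℂ,
      (∀ v ∈ tt ρ x, ρ b v = ν • v) → b = 1 := fun {Y x} hx b hb ν h => by
    by_contra e
    have h1 := not_big hi hρ hd h3 hO hI hb e ν
    have h2 : finrank ℂ (tt ρ x) ≤ _ := Submodule.finrank_mono fun v hv =>
      End.mem_eigenspace_iff.2 (h v hv)
    have h4 : p ≤ 2 * finrank ℂ (tt ρ x) + 1 := hx.le
    omega
  have a2 : ∀ {Y : Subgroup G} {x : Y}, Gd p (ρ.comp Y.subtype) x → ∀ b : G, PE p b →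
      (∀ y ∈ Y, y * b = b * y) → b = 1 := fun {Y x} hx b hb h => by
    obtain ⟨ν, hν⟩ := hx.cent (ρ b) _ (orderOf_pos b).ne' (rep_pow rfl ρ) fun y =>
      Commute.map (h y y.2).symm ρ
    exact a1 hx b hb ν hν
  have a3 : ∀ {g : G}, g ∉ center G → ¬ IsPGroup p (pElementClosure p (centralizer {g})) →
      ∃ x, Gd p (ρ.comp (pElementClosure p (centralizer {g})).subtype) x := fun hg h =>
    exists_gd (hρ.comp (subtype_injective _)) hd h3 (gen_pel _) h (hI _ (a0 hg))
  have a4 : ∀ {y : G}, PE p y → y ≠ 1 → y ∉ center G := fun hy h e =>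
    h (mem_bot.1 (hO.le (mem_pCore_of_center e hy)))
  have a5 : ∀ S : Sylow p G, ∀ a ∈ (S : Subgroup G), ∀ b ∈ (S : Subgroup G), a * b = b * a :=
    fun S a ha b hb => comm_of_isPGroup hρ (by omega) S.2 ha hb
  have a6 : ∀ S : Sylow p G, ∀ y ∈ (S : Subgroup G), y ≠ 1 →
      pElementClosure p (centralizer {y}) = S := fun S y hy h => S.is_maximal' (by
      by_contra e
      obtain ⟨x, hx⟩ := a3 (a4 (pe_of_mem S.2 hy) h) e
      exact h (a2 hx y (pe_of_mem S.2 hy) fun a ha => mem_centralizer_singleton_iff.1 (pel_le _ _ ha)))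
    (le_pel (fun a ha => mem_centralizer_singleton_iff.2 (a5 S a ha y hy)) S.2)
  have a7 : ∀ {g : G}, g ∉ center G → IsPGroup p (pElementClosure p (centralizer {g})) :=
    fun {g} hg => by
      by_contra e
      obtain ⟨x, hx⟩ := a3 hg e
      have h1 : orderOf (x : G) = p := (orderOf_coe x).trans hx.ord
      obtain ⟨S, hS⟩ := (PE.isPGroup (p := p) (g := (x : G))
        ⟨1, orderOf_dvd_iff_pow_eq_one.1 (h1.trans (pow_one p).symm).dvd⟩).exists_le_sylow
      have h2 := hS (mem_zpowers _)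
      have h4 : (x : G) * g = g * x := mem_centralizer_singleton_iff.1 (pel_le _ _ x.2)
      have h5 := le_normalizer_pel (p := p) _ (mem_centralizer_singleton_iff.2 h4.symm)
      rw [a6 S x h2 fun e => hp.out.ne_one (h1.symm.trans (orderOf_eq_one_iff.2 e))] at h5
      have h6 : (S : Subgroup G) ≤ centralizer {g} := fun a ha => by
        have h6 : Commute (ρ a) (ρ x) := Commute.map (a5 S a ha x h2) ρ
        have h7 : Commute (ρ g) (ρ x) := Commute.map h4.symm ρ
        have h8 : Commute (ρ (a⁻¹ * g⁻¹)) (ρ x - 1) := (Commute.map (Commute.mul_left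
          (Commute.inv_left (a5 S a ha x h2)) (Commute.inv_left h4.symm)) ρ).sub_right
            (Commute.one_right _)
        have h9 := a1 hx (a * (g * a⁻¹ * g⁻¹)) (pe_of_mem S.2 (mul_mem ha
          ((mem_normalizer_iff.1 h5 _).1 (inv_mem ha)))) 1 fun v hv => by
            have := hx.comm h6 h7 (apply_mem_range h8 hv)
            rw [← End.mul_apply, ← End.mul_apply, ← map_mul, ← map_mul, ← End.mul_apply,
              ← End.mul_apply, ← map_mul, ← map_mul] at this
            simpa [mul_assoc] using this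
        rw [mem_centralizer_singleton_iff]
        calc a * g = a * (g * a⁻¹ * g⁻¹) * (g * a) := by group
          _ = _ := by rw [h9, one_mul]
      refine hI _ (a0 hg) ?_
      rw [show pCore p (pElementClosure p (centralizer {g})) = ⊥ from
        eq_bot_iff.2 fun z hz => mem_bot.2 (Subtype.ext (a2 hx z
        ((pe_of_mem (pCore_isPGroup p _) hz).map (Subgroup.subtype _)) fun y hy => congrArg Subtype.val
          (mem_center_iff.1 (pCore_le_center (ρ := ρ.comp (Subgroup.subtype _))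
            (hρ.comp (subtype_injective _)) (by omega) (gen_pel _) hz) ⟨y, hy⟩))), index_bot]
      exact (S.pow_dvd_card_of_pow_dvd_card hsq).trans (card_dvd_of_le (le_pel h6 S.2))
  obtain ⟨P⟩ : Nonempty (Sylow p G) := inferInstance
  have hχ := isIrrCharacter_character ρ
  have h11 := card_lt_sq (a5 P) (eq_bot_iff.2 fun y hy => mem_bot.2 (by_contra fun e =>
    a4 (pe_of_mem P.2 hy.1) e hy.2)) (fun g hg a b ha hb => by
      obtain ⟨S, hS⟩ := (a7 hg).exists_le_sylow
      have h1 : ∀ T : Sylow p G, centralizer {g} ⊓ (T : Subgroup G) ≠ ⊥ → (T : Subgroup G) = S :=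
        fun T hT => by
          obtain ⟨y, hy, h1⟩ := (bot_or_exists_ne_one _).resolve_left hT
          rw [← a6 T y hy.2 h1, a6 S y (hS (le_pel inf_le_left T.2.to_inf_right hy)) h1]
      exact (h1 (a • P) ha).trans (h1 (b • P) hb).symm) hχ (fun e => ?_) fun M _ hM => ?_
  · have h13 := Nat.le_of_dvd Nat.card_pos (P.pow_dvd_card_of_pow_dvd_card hsq)
    have h14 : (1 + charDegree ρ.character) ^ 2 ≤ p ^ 2 :=
      Nat.pow_le_pow_left (by rw [charDegree_character]; omega) 2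
    omega
  · obtain ⟨lam, h⟩ := hχ.isCharacter.exists_hom_of_apply_one e
    refine hP (hg.isPGroup P ⟨fun a ha g => ?_⟩)
    rwa [show g * a * g⁻¹ = a from mul_inv_eq_one.1 (faithful hρ _ (by rw [h]; simp))]
  · exact hg M fun y hy => hy.mem_of_index fun e => P.not_dvd_index (e.trans (index_dvd_of_le hM))

omit hi hρ hd h3 hO hI

theorem normal_of_small {χ : G → ℂ} (hχ : IsCharacter G χ) (hf : ∀ g, χ g = χ 1 → g = 1)
    (hd : 2 * charDegree χ + 1 < p ∨ charDegree χ ≤ 1) (P : Sylow p G) : (P : Subgroup G).Normal := by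
  by_cases h : charDegree χ ≤ 1
  · exact ⟨fun a ha g => by
      rwa [(linDeg_of_faithful hχ hf).comm (fun q hq _ => h.trans_lt hq.one_lt) g,
        mul_inv_cancel_right]⟩
  obtain ⟨n, ρ, rfl⟩ := id hχ
  exact normal_sylow_of_forall _ G _ rfl hχ hf (by omega) (fun K hK => normal_sylow_of_sq_le
    (ρ.comp K.subtype) (((injective_iff_map_eq_one ρ).2 fun g hg =>
      hf g ((character_eq_character_one_iff ρ g).2 hg)).comp K.subtype_injective)
    (charDegree_character ρ ▸ hd.resolve_right h) hK) P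

theorem exists_faithful {χ : G → ℂ} (hχ : IsCharacter G χ) : ∃ φ : G ⧸ charKer χ → ℂ,
    (haveI := hχ.charKer_normal; IsCharacter _ φ ∧ (∀ g, φ g = φ 1 → g = 1) ∧
      charDegree φ = charDegree χ) := by
  have := hχ.charKer_normal
  obtain ⟨φ, h1, h2⟩ := hχ.exists_deflate (charKer χ) fun g hg => hχ.mem_charKer_iff.1 hg
  refine ⟨φ, h1, fun g hg => ?_, charDegree_congr (h2 1)⟩
  obtain ⟨g, rfl⟩ := QuotientGroup.mk_surjective g
  exact (QuotientGroup.eq_one_iff g).2 (hχ.mem_charKer_iff.2 (by rw [← h2, hg, ← h2]; rfl))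

universe u

theorem feit_aux (m : ℕ) : ∀ (G : Type u) [Group G] [Finite G] (χ : G → ℂ),
    Nat.card G + charDegree χ = m → IsCharacter G χ → (∀ g, χ g = χ 1 → g = 1) →
      charDegree χ + 2 ≤ p → ¬ p ^ 2 ∣ (pCore p G).index := by
  induction m using Nat.strong_induction_on with | _ m ih => ?_
  intro G _ _ χ hm hχ hf hd
  have h0 : ∀ P : Sylow p G, (P : Subgroup G).Normal → ¬ p ^ 2 ∣ (pCore p G).index := fun P hP e =>
    P.not_dvd_index (pCore_eq_sylow_of_normal P hP ▸ (dvd_pow_self p two_ne_zero).trans e)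
  obtain ⟨P⟩ : Nonempty (Sylow p G) := inferInstance
  by_cases h3 : ¬ 3 < p
  · exact h0 P (normal_of_small hχ hf (by omega) P)
  have hI : ∀ Y : Subgroup G, Y ≠ ⊤ → ¬ p ^ 2 ∣ (pCore p Y).index := fun Y hY =>
    ih _ (hm ▸ Nat.add_lt_add_right (card_lt_of_ne_top hY) _) Y _ rfl (hχ.comp Y.subtype)
      (fun g hg => Subtype.ext (hf g hg)) hd
  by_cases hY : pElementClosure p (⊤ : Subgroup G) ≠ ⊤
  · intro e
    have : (pElementClosure p (⊤ : Subgroup G)).Normal :=
      normalizer_eq_top_iff.1 (top_le_iff.1 (le_normalizer_pel _))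
    have h1 := e.trans (index_dvd_of_le (le_pCore inferInstance ((pCore_isPGroup p
      (pElementClosure p (⊤ : Subgroup G))).map (Subgroup.subtype _))))
    rw [index_map_subtype] at h1
    exact hI _ hY (((hp.out.coprime_iff_not_dvd.2 (relIndex_top_right
      (pElementClosure p (⊤ : Subgroup G)) ▸ not_dvd_relIndex_pel _)).pow_left 2).dvd_of_dvd_mul_right h1)
  have hg : Gen p G := (gen_pel ⊤).of_surjective (f := Subgroup.subtype _) fun g =>
    ⟨⟨g, (not_not.1 hY).ge (mem_top g)⟩, rfl⟩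
  have h1 : ∀ (K : Subgroup G) [K.Normal] (φ : G ⧸ K → ℂ), IsPGroup p K → IsCharacter _ φ →
      (∀ g, φ g = φ 1 → g = 1) → charDegree φ ≤ charDegree χ →
      (K ≠ ⊥ ∨ charDegree φ < charDegree χ) → ¬ p ^ 2 ∣ (pCore p G).index :=
    fun K _ φ h1 h2 h4 h5 h6 => by
      rw [← comap_pCore_mk' K h1, index_comap_of_surjective _ (QuotientGroup.mk'_surjective K)]
      have h7 : Nat.card (G ⧸ K) ≤ Nat.card G := Nat.le_of_dvd Nat.card_pos (card_quotient_dvd_card K)
      refine ih _ ?_ _ φ rfl h2 h4 (by omega)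
      rcases h6 with h6 | h6
      · have := card_quotient_lt h6
        omega
      · omega
  have h2 : ∀ ψ φ, IsCharacter G ψ → IsCharacter G φ → χ = ψ + φ → 0 < charDegree φ →
      charDegree φ ≤ charDegree ψ → ¬ p ^ 2 ∣ (pCore p G).index := fun ψ φ hψ hφ e h2 h4 => by
    have := hψ.charKer_normal
    have := hφ.charKer_normal
    obtain ⟨ψ', h5, h6, h7⟩ := exists_faithful hψ
    obtain ⟨φ', h8, h9, h10⟩ := exists_faithful hφ
    have h11 := charDegree_add' hψ hφ
    rw [← e] at h11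
    obtain ⟨Q⟩ : Nonempty (Sylow p (G ⧸ charKer φ)) := inferInstance
    refine h1 _ ψ' (((hg.of_surjective (QuotientGroup.mk'_surjective _)).isPGroup Q
      (normal_of_small h8 h9 (by omega) Q)).of_injective ((QuotientGroup.mk' _).comp
        (Subgroup.subtype _)) ((injective_iff_map_eq_one _).2 fun g hg => Subtype.ext (hf g ?_)))
      h5 h6 (by omega) (by omega)
    rw [e, Pi.add_apply, Pi.add_apply, hψ.mem_charKer_iff.1 g.2,
      hφ.mem_charKer_iff.1 ((QuotientGroup.eq_one_iff (g : G)).1 hg)]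
  by_cases hP : IsPGroup p G
  · exact h0 P (by rw [← pCore_eq_top_iff] at hP; exact (sylow_normal_iff_le_pCore P).2 (hP ▸ le_top))
  obtain ⟨ψ, φ, hψ, hφ, e⟩ := hχ.exists_irr_add fun e => hP fun g => ⟨0, by simpa using hf g (by simp [e])⟩
  rcases (charDegree φ).eq_zero_or_pos with h4 | h4
  · obtain rfl : χ = ψ := by
      rw [e, hφ.eq_zero_of_apply_one (by rw [hφ.apply_one_eq, h4, Nat.cast_zero]), add_zero]
    obtain ⟨n, ρ, hi, rfl⟩ := id hψ
    have hρ : Function.Injective ρ := (injective_iff_map_eq_one ρ).2 fun g hg =>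
      hf g ((character_eq_character_one_iff ρ g).2 hg)
    have h5 := charDegree_character ρ
    by_cases hO : pCore p G = ⊥
    · rw [hO, index_bot]
      exact not_sq_dvd hi hρ (h5 ▸ hd) (not_not.1 h3) hO hI hg hP
    obtain ⟨-, φ', h6, h7, h8, -⟩ := twist hψ hf hp.out (fun e => by
      have := Nat.le_of_dvd hψ.charDegree_pos e
      omega) (pCore p G) (inf_eq_left.2 (pCore_le_center hρ (by omega) hg)).symm
    exact h1 _ φ' (pCore_isPGroup p G) h6.isCharacter h7 h8.le (.inl hO)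
  · rcases le_total (charDegree φ) (charDegree ψ) with h5 | h5
    · exact h2 ψ φ hψ.isCharacter hφ e h4 h5
    · exact h2 φ ψ hφ hψ.isCharacter (e.trans (add_comm _ _)) hψ.charDegree_pos h5

/-- **Feit**: in a linear group of degree less than `p - 1` the index of `O_p` is not divisible by
`p ^ 2`. -/
theorem feit {χ : G → ℂ} (hχ : IsCharacter G χ) (hf : ∀ g, χ g = χ 1 → g = 1)
    (hd : charDegree χ + 2 ≤ p) : ¬ p ^ 2 ∣ (pCore p G).index := feit_aux _ G χ rfl hχ hf hd

end Cfsg.Lib.LinP
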