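import Cfsg.Agent.Lib.LinP.Quot
import Cfsg.Agent.Lib.Char.DefectZero

/-!
# Integer values of characters and the involution form
-/

set_option autoImplicit false

namespace Cfsg.Lib.LinP

open Cfsg.Lib.Char Cfsg.Lib.Small Cfsg.Lib.Cyc Cfsg.Lib.Block Subgroup Finset

variable {G : Type*} [Group G] [Finite G] {p q d t x y z : ℕ} {S Y : Finset (IrrCharacter G)}
  {a : IrrCharacter G → ℤ} {b c : ℤ} {ξ η θ : IrrCharacter G} {g u w : G} {φ : G → ℂ}

theorem int_lt_deg [IsSimpleGroup G] (h : ξ ≠ irrOne G) (hu : u ≠ 1) (hc : (ξ : G → ℂ) u = c) :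
    c < charDegree (ξ : G → ℂ) := by
  have h3 := ξ.2.isCharacter.norm_le u
  have h4 : c ≠ charDegree (ξ : G → ℂ) := fun e => hu (mem_bot.1 (ξ.2.charKer_eq_bot_of_isSimpleGroup
    (fun e => h (Subtype.ext e)) ▸ ξ.2.isCharacter.mem_charKer_iff.2 (by
      rw [hc, e, ξ.2.apply_one_eq, Int.cast_natCast])))
  rw [hc, ξ.2.apply_one_eq, Complex.norm_intCast, Complex.norm_natCast] at h3
  have h5 : |c| ≤ charDegree (ξ : G → ℂ) := by exact_mod_cast h3
  have := le_abs_self c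
  omega

theorem prime_dvd_sub (hφ : IsCharacter G φ) (hq : q.Prime) (hu : orderOf u = q) (hc : φ u = c) :
    (q : ℤ) ∣ charDegree φ - c := by
  have h1 := card_mul_fixDim_of_const hφ (A := zpowers u) (c := c) fun v hv h2 => by
    obtain ⟨j, rfl⟩ := mem_powers_iff_mem_zpowers.2 hv
    exact (hφ.isGeneralizedCharacter.apply_pow_eq_of_rat (q := c) (by rw [hc, Rat.cast_intCast])
      (hu ▸ (hq.coprime_iff_not_dvd.2 fun e =>
        h2 (orderOf_dvd_iff_pow_eq_one.1 (hu ▸ e))).symm)).trans hc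
  rw [Nat.card_zpowers, hu] at h1
  exact ⟨fixDim φ (zpowers u) - c, by linear_combination -h1⟩

theorem four_dvd_sub (hG : commutator G = ⊤) (hφ : IsCharacter G φ) (hu : orderOf u = 2)
    (hc : φ u = c) : 4 ∣ charDegree φ - c := by
  obtain ⟨m, n, h1, h2, h3⟩ := exists_mult_two hφ (hu ▸ pow_orderOf_eq_one u)
  have h4 : c = m - n := by exact_mod_cast hc.symm.trans h2
  have := h3 hG
  omega

theorem dvd_of_commute (hφ : IsCharacter G φ) (hq : q.Prime) (hg : orderOf g = q)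
    (hu : ¬ q ∣ orderOf u) (h : Commute u g) (hb : ∀ v, q ∣ orderOf v → φ v = b) (hc : φ u = c) :
    (q : ℤ) ∣ c - b := by
  obtain ⟨ψ, h1, h2⟩ := Small.exists_iso (A := zpowers g) (zpowers_ne_bot.2 fun e =>
    hq.one_lt.ne (by rw [← hg, e, orderOf_one])) hφ
  have h3 := h2 ⟨u, (centralizer_zpowers g).ge (mem_centralizer_singleton_iff.2 h)⟩ b (by
    rintro _ ⟨k, rfl⟩ h3
    have h4 : orderOf (g ^ k) = q := ((Nat.dvd_prime hq).1 (hg ▸ orderOf_dvd_of_mem_zpowers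
      (zpow_mem_zpowers g k))).resolve_left fun e => h3 (orderOf_eq_one_iff.1 e)
    refine hb _ ?_
    rw [(h.symm.zpow_left k).orderOf_mul_eq_mul_orderOf_of_coprime
      (h4 ▸ hq.coprime_iff_not_dvd.2 hu), h4]
    exact dvd_mul_right _ _)
  rw [Nat.card_zpowers, hg, hc] at h3
  refine int_dvd_of_isIntegral_div (Nat.cast_ne_zero.2 hq.ne_zero) ?_
  rw [Int.cast_sub, ← h3, Int.cast_natCast, mul_div_cancel_left₀ _ (Nat.cast_ne_zero.2 hq.ne_zero)]
  exact h1.isIntegral _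

theorem card_cent_eq (hq : q.Prime) (hg : orderOf g = q) (hsq : ¬ q ^ 2 ∣ Nat.card G)
    (h : ∀ u, (orderOf u).Prime → orderOf u ≠ q → ¬ Commute u g) :
    Nat.card (centralizer ({g} : Set G)) = q := by
  obtain ⟨m, hm⟩ : q ∣ Nat.card (centralizer ({g} : Set G)) :=
    hg ▸ orderOf_dvd_natCard _ (mem_centralizer_singleton_iff.2 rfl)
  by_contra h1
  obtain ⟨r, h2, h3⟩ := Nat.exists_prime_and_dvd (n := m) fun e => h1 (by rw [hm, e, mul_one])
  obtain ⟨u, h4, h5⟩ := exists_mem_orderOf_eq_prime h2 (hm ▸ h3.mul_left q)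
  exact h u (h5 ▸ h2) (fun e => hsq ((pow_two q ▸ hm ▸ mul_dvd_mul_left q (e ▸ h5 ▸ h3)).trans
    (card_subgroup_dvd_card _))) (mem_centralizer_singleton_iff.1 h4)

theorem vanish (hq : q.Prime) (hsq : ¬ q ^ 2 ∣ Nat.card G) (h : q ∣ charDegree (ξ : G → ℂ))
    (hg : q ∣ orderOf g) : (ξ : G → ℂ) g = 0 :=
  ξ.2.apply_eq_zero_of_defect_zero hq ((pow_dvd_pow q (Nat.lt_succ_iff.1 (not_le.1 fun e =>
    hsq ((hq.pow_dvd_iff_le_factorization Nat.card_pos.ne').2 e)))).trans (by rwa [pow_one])) hg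

namespace Th

variable (h : Th p t x y z S Y a 1 (-1) (-1) ξ η θ w)
include h

theorem form (hu : ¬ p ∣ orderOf u) (hb : (η : G → ℂ) u = (y - b : ℤ))
    (hc : (θ : G → ℂ) u = (z - c : ℤ)) : (ξ : G → ℂ) u = (x - (b + c) : ℤ) ∧
      x * z * b ^ 2 + x * y * c ^ 2 ≤ y * z * (b + c) ^ 2 ∧
      (orderOf u = 2 → x * z * b ^ 2 + x * y * c ^ 2 = y * z * (b + c) ^ 2) := by
  have h1 := h.reg1 hu
  have h2 : (1 : ℂ) + x - y - z = 0 := by exact_mod_cast (show (1 : ℤ) + x - y - z = 0 by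
    linear_combination h.deg)
  have h3 : (ξ : G → ℂ) u = (x - (b + c) : ℤ) := by
    rw [hb, hc] at h1
    push_cast at h1 ⊢
    linear_combination h1 - h2
  obtain ⟨r, h4, h5, h6⟩ := h.pairs hu
  have hx : (x : ℂ) ≠ 0 := Nat.cast_ne_zero.2 (h.dx ▸ ξ.2.charDegree_pos).ne'
  have hy : (y : ℂ) ≠ 0 := Nat.cast_ne_zero.2 (h.dy ▸ η.2.charDegree_pos).ne'
  have hz : (z : ℂ) ≠ 0 := Nat.cast_ne_zero.2 (h.dz ▸ θ.2.charDegree_pos).ne'
  have h7 : (r * (x * y * z) : ℂ) = (y * z * (b + c) ^ 2 - (x * z * b ^ 2 + x * y * c ^ 2) : ℤ) := by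
    rw [h6, h3, hb, hc]
    push_cast
    field_simp
    linear_combination x * y * z * h2
  have h8 : (r * (x * y * z) : ℝ) = (y * z * (b + c) ^ 2 - (x * z * b ^ 2 + x * y * c ^ 2) : ℤ) := by
    exact_mod_cast h7
  refine ⟨h3, sub_nonneg.1 ((Int.cast_nonneg_iff (R := ℝ)).1 (h8.symm ▸ by positivity)), fun e => ?_⟩
  rw [h5 e, zero_mul, eq_comm, Int.cast_eq_zero, sub_eq_zero] at h8
  exact h8.symm

theorem isSquare [IsSimpleGroup G] (h2 : 2 ∣ Nat.card G) : IsSquare (x * y * z) := by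
  obtain ⟨u, hu⟩ := exists_prime_orderOf_dvd_card' 2 h2
  have h3 : ¬ p ∣ orderOf u := fun e => by
    have := (Nat.prime_dvd_prime_iff_eq h.prime Nat.prime_two).1 (hu ▸ e)
    have := h.mul_add_one
    omega
  have h4 : u ^ 2 = 1 := hu ▸ pow_orderOf_eq_one u
  obtain ⟨b, hb⟩ := η.2.isGeneralizedCharacter.exists_int_of_sq_eq_one h4
  obtain ⟨c, hc⟩ := θ.2.isGeneralizedCharacter.exists_int_of_sq_eq_one h4
  have h5 := (h.form (b := y - b) (c := z - c) h3 (by simpa) (by simpa)).2.2 hu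
  have h6 := int_lt_deg (h.ne_one h.mem) (fun e => by simp [e] at hu) hc
  have h7 := h.deg
  rw [h.dz, ← sub_pos] at h6
  generalize y - b = B at h5
  generalize z - c = C at h5 h6
  have h8 : (C : ℚ) ≠ 0 := by exact_mod_cast h6.ne'
  refine Rat.isSquare_natCast_iff.1 ⟨(z * (1 - z) * B + y * z * C : ℤ) / C, ?_⟩
  rw [div_mul_div_comm, eq_div_iff (mul_ne_zero h8 h8), ← Int.cast_natCast, ← Int.cast_mul,
    ← Int.cast_mul, ← Int.cast_mul, Int.cast_inj]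
  push_cast
  rw [show (x : ℤ) = y + z - 1 by omega] at h5 ⊢
  linear_combination (z - z ^ 2) * h5

theorem val (h1 : x ≠ y) (h2 : x ≠ z) (h3 : y ≠ z) (hx : x ≠ 1) (hy : y ≠ 1)
    (hu : ¬ p ∣ orderOf u) : ∃ b c : ℤ, (η : G → ℂ) u = (y - b : ℤ) ∧ (θ : G → ℂ) u = (z - c : ℤ) := by
  have h4 : ∀ ψ, ψ ∈ S ∨ ψ ∈ Y → charDegree (ψ : G → ℂ) = 1 ∨ ψ = ξ ∨ ψ = η ∨
      charDegree (ψ : G → ℂ) = z := fun ψ hψ => hψ.elim
    (fun e => (h.cases ψ e).imp (fun e => by rw [e, coe_irrOne, charDegree_one]) (.imp_right .inl))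
    fun e => .inr (.inr (.inr ((h.deg_eq h.mem e).trans h.dz)))
  have h5 := h.dx
  have h6 := h.dy
  obtain ⟨m, hm⟩ := exists_int_of_deg h.toPB0 h.mem₁ (fun ψ hψ e => by grind) u
  obtain ⟨n, hn⟩ := exists_int_of_deg h.toPB0 h.mem₂ (fun ψ hψ e => by grind) u
  have h7 := h.reg1 hu
  refine ⟨y - n, z - (1 + m - n), by simpa, ?_⟩
  rw [hm, hn] at h7
  push_cast at h7 ⊢
  linear_combination -h7

end Th

theorem Qs.exists_th (h : Qs p 3 d w φ) (h2 : 2 ∣ d) (hd : d + 3 = p) :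
    ∃ (t x y z : ℕ) (S Y : Finset (IrrCharacter G)) (a : IrrCharacter G → ℤ)
      (ξ η θ : IrrCharacter G) (m n N : ℕ) (ρ : G → ℂ), Th p t x y z S Y a 1 (-1) (-1) ξ η θ w ∧
      IsCharacter G ρ ∧ (∀ [Fintype G] ψ, IsIrrCharacter G ψ → classInner ρ ψ ≠ 0 → p ∣ charDegree ψ) ∧
      (∀ g, ¬ p ∣ orderOf g →
        φ g = 1 + m * (ξ : G → ℂ) g + n * (η : G → ℂ) g + N * (θ : G → ℂ) g + ρ g) ∧
      3 * d + 3 * N + (d + 2) * n = (d + 2) * (1 + m) ∧
      d ^ 2 = 1 + m * x + n * y + N * z + charDegree ρ ∧ x + 1 = y + z ∧ p ∣ y + 1 ∧ p ∣ z + d ∧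
      IsSquare (x * y * z) := by
  have := Fintype.ofFinite G
  have := h.simple
  obtain ⟨t, S, Y, a, δ, h1⟩ := h.pb
  obtain ⟨x, y, z, α, β, ξ, η, θ, h3⟩ := LinP.exists_th h1 h.ord h.cent
  obtain ⟨n, N, ρ, h4, h5, h6, h7, h8⟩ := decompose h3.toPB0 h3.mem h.ord h.cent h.chr
  have h9 : n (irrOne G) = 1 := Nat.cast_injective (R := ℂ) ((h4 _).symm.trans (by
    rw [coe_irrOne, Nat.cast_one]; exact h.inner))
  simp only [h3.hS, h9, irrOne_apply, Nat.cast_one, one_mul, h3.a_one, h3.sgn₁, h3.sgn₂, h.fix,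
    h.deg] at h7 h8
  have h10 := h7 1 h3.not_dvd_one
  rw [h.chr.apply_one_eq, h5.apply_one_eq, ξ.2.apply_one_eq, η.2.apply_one_eq, θ.2.apply_one_eq,
    h.deg, h3.dx, h3.dy, h3.dz] at h10
  norm_cast at h10
  have b1 := h3.modS h3.mem₁
  have b2 := h3.modS h3.mem₂
  have b3 := h3.modY h3.mem
  have b4 := h3.deg
  rw [h3.dx, h3.sgn₁] at b1
  rw [h3.dy, h3.sgn₂] at b2
  rw [h3.dz] at b3
  subst hd
  obtain ⟨rfl, ⟨rfl, rfl⟩ | ⟨rfl, rfl⟩⟩ := h3.signs (h2.trans h.dvd)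
  · have b5 := Int.le_of_dvd (by omega) b1
    have b6 := Int.le_of_dvd (by omega) b2
    have b7 : 2 * d + 3 ≤ z := by omega
    have b8 : 2 * d ≤ 3 * N + 2 := by push_cast at h8; nlinarith
    have b9 : 0 < d := Nat.pos_of_ne_zero (by rintro rfl; omega)
    have b10 : N * (2 * d + 3) < d ^ 2 := (Nat.mul_le_mul_left N b7).trans_lt (by omega)
    have b11 := Nat.le_of_dvd b9 h2
    nlinarith
  · refine ⟨t, x, y, z, S, Y, a, ξ, η, θ, n ξ, n η, N, ρ, h3, h5, ?_, h7, ?_, h10, by omega,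
      Int.natCast_dvd_natCast.1 (by simpa using b2), ?_, h3.isSquare (h2.trans h.dvd)⟩
    · intro _
      convert h6
    · zify
      push_cast at h8
      linear_combination h8
    · obtain ⟨k, hk⟩ := b3
      exact Int.natCast_dvd_natCast.1 ⟨k + 1, by push_cast at hk ⊢; linear_combination hk⟩

end Cfsg.Lib.LinP
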