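import Cfsg.Agent.Lib.LinP.Form

/-!
# There is no linear group of degree 16 with a non-normal Sylow 19-subgroup
-/

set_option autoImplicit false

namespace Cfsg.Lib.LinP

open Cfsg.Lib.Char Cfsg.Lib.Small Cfsg.Lib.Cyc Cfsg.Lib.Block Cfsg.Lib.Modular Subgroup Finset

variable {G : Type*} [Group G] [Finite G] {p q : ℕ} {g u w : G} {φ : G → ℂ}

theorem re_le_deg (hφ : IsCharacter G φ) (g : G) : (φ g).re ≤ charDegree φ := by
  have := (Complex.re_le_norm _).trans (hφ.norm_le g)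
  rwa [hφ.apply_one_eq, Complex.norm_natCast] at this

omit [Finite G] in
theorem not_dvd_of_prime (hp : p.Prime) (hu : (orderOf u).Prime) (h : orderOf u ≠ p) :
    ¬ p ∣ orderOf u := fun e => h ((Nat.prime_dvd_prime_iff_eq hp hu).1 e).symm

theorem exists_pb' [hq : Fact q.Prime] (hg : orderOf g = q) (hsq : ¬ q ^ 2 ∣ Nat.card G) :
    ∃ e t S Y a δ, PB (G := G) q e t S Y a δ := by
  obtain ⟨P, hP⟩ := exists_sylow_eq_zpowers hg hsq
  exact ⟨_, exists_pb P (by rw [hP, Nat.card_zpowers, hg])⟩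

theorem arith19 {x y z m n N r : ℕ} (h1 : 3 * 16 + 3 * N + (16 + 2) * n = (16 + 2) * (1 + m))
    (h2 : 16 ^ 2 = 1 + m * x + n * y + N * z + r) (h3 : x + 1 = y + z) (h4 : 19 ∣ y + 1)
    (h5 : 19 ∣ z + 16) (h6 : IsSquare (x * y * z)) :
    x = 77 ∧ y = 56 ∧ z = 22 ∧ m = 2 ∧ n = 0 ∧ N = 2 ∧ r = 57 := by
  have a1 : 2 * x ≤ m * x := Nat.mul_le_mul_right x (by omega)
  have a2 : 2 * z ≤ N * z := Nat.mul_le_mul_right z (by omega)
  obtain ⟨s, hs⟩ := h6
  replace hs := (Nat.exists_mul_self _).1 ⟨s, hs.symm⟩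
  obtain ⟨j, hj⟩ := h4
  obtain ⟨k, hk⟩ := h5
  obtain rfl : x = 19 * j + 19 * k - 18 := by omega
  obtain rfl : y = 19 * j - 1 := by omega
  obtain rfl : z = 19 * k - 16 := by omega
  have : j = 3 ∧ k = 2 := by
    have b1 : j < 7 := by omega
    have b2 : k < 4 := by omega
    clear h1 a1 a2 h2
    interval_cases j <;> interval_cases k <;> simp_all <;> norm_num at hs
  obtain ⟨rfl, rfl⟩ := this
  obtain rfl : m = 2 := by omega
  omega

theorem Qs.not_19 (h : Qs 19 3 16 w φ) : False := by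
  classical
  have := h.simple
  have := Fintype.ofFinite G
  have : Fact (Nat.Prime 11) := ⟨by norm_num⟩
  have hG := commutator_eq_top_of_simple h.ncomm
  obtain ⟨t, x, y, z, S, Y, a, ξ, η, θ, m, n, N, ρ, h1, h2, h3, h4, h5, h6, h7, h8, h9, h10⟩ :=
    h.exists_th (by norm_num) rfl
  obtain ⟨rfl, rfl, rfl, rfl, rfl, rfl, h11⟩ := arith19 h5 h6 h7 h8 h9 h10
  have a1 : ∀ u : G, u ≠ 1 → ¬ 19 ∣ orderOf u →
      ∃ c : ℤ, (θ : G → ℂ) u = (22 - c : ℤ) ∧ 0 < c ∧ c ≤ 32 := fun u hu hu' => by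
    obtain ⟨b, c, hb, hc⟩ := h1.val (by norm_num) (by norm_num) (by norm_num) (by norm_num)
      (by norm_num) hu'
    obtain ⟨b1, b2, -⟩ := h1.form hu' hb hc
    have b3 := int_lt_deg (h1.ne_one h1.mem) hu hc
    have b4 := h.nonneg u
    have b5 := re_le_deg h2 u
    rw [h4 u hu', b1, hb, hc] at b4
    rw [h1.dz] at b3
    rw [h11] at b5
    simp only [Complex.add_re, Complex.one_re, ← Int.cast_natCast (R := ℂ), ← Int.cast_mul,
      Complex.intCast_re] at b4
    have b6 : (0 : ℤ) ≤ 1 + 2 * (77 - (b + c)) + 2 * (22 - c) + 57 := by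
      rw [← Int.cast_le (R := ℝ)]
      push_cast at b4 b5 ⊢
      linarith
    push_cast at b2
    exact ⟨c, hc, by omega, by nlinarith⟩
  have a2 : ¬ 11 ^ 2 ∣ Nat.card G := fun e => by
    obtain ⟨M, hM⟩ := exists_isPModular (p := 11) Fact.out
    have : Modular 11 M := ⟨hM⟩
    have b1 := (pow_dvd_pow _ (((Fact.out : Nat.Prime 11).pow_dvd_iff_le_factorization
      Nat.card_pos.ne').1 e)).trans (h1.bt' M (by norm_num))
    obtain ⟨u, b2, b3⟩ := exists_central ((dvd_pow_self 11 two_ne_zero).trans e)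
    obtain ⟨c, b4, b5, b6⟩ := a1 u (fun e => by simp [e] at b2) (by rw [b2]; norm_num)
    have b7 := cc (k := 1) (show θ ∈ principalBlock M G by
      by_contra b7
      rw [if_neg b7] at b1
      split_ifs at b1 <;> norm_num at b1) b3 b4 (by rw [h1.dz]; norm_num)
    rw [h1.dz] at b7
    omega
  obtain ⟨g, hg⟩ := exists_prime_orderOf_dvd_card' (G := G) 11
    ((show 11 ∣ _ by rw [h1.dz]; norm_num).trans θ.2.charDegree_dvd_card)
  have a3 : ∀ v, 11 ∣ orderOf v → (θ : G → ℂ) v = 0 := fun v =>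
    vanish Fact.out a2 (by rw [h1.dz]; norm_num)
  have a4 := card_cent_eq Fact.out hg a2 fun u b1 b2 b3 => by
    have b4 : ¬ 19 ∣ orderOf u := fun e => by
      have b4 := orderOf_eq_of_selfCent h1.toPB0 h1.ord h1.cent (g := u * g)
      rw [b3.orderOf_mul_eq_mul_orderOf_of_coprime (by
        rw [hg]; exact (Nat.coprime_primes b1 Fact.out).2 b2), hg] at b4
      have := b4 (e.mul_right _)
      omega
    obtain ⟨c, b5, b6, b7⟩ := a1 u (fun e => b1.ne_one (orderOf_eq_one_iff.2 e)) b4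
    have b8 := dvd_of_commute (b := 0) θ.2.isCharacter Fact.out hg (not_dvd_of_prime Fact.out b1 b2)
      b3 (by simpa using a3) b5
    have b9 := prime_dvd_sub θ.2.isCharacter b1 rfl b5
    have b10 := fun e => four_dvd_sub hG θ.2.isCharacter e b5
    rw [h1.dz, Nat.cast_ofNat, sub_sub_cancel] at b9 b10
    obtain rfl | rfl : c = 11 ∨ c = 22 := by omega
    · exact b2 ((Nat.prime_dvd_prime_iff_eq b1 Fact.out).1 (by exact_mod_cast b9))
    · obtain e | e := (b1.dvd_mul (m := 2) (n := 11)).1 (by exact_mod_cast b9)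
      · have := b10 ((Nat.prime_dvd_prime_iff_eq b1 Nat.prime_two).1 e)
        omega
      · exact b2 ((Nat.prime_dvd_prime_iff_eq b1 Fact.out).1 e)
  obtain ⟨e, t', S', Y', a', δ', h12⟩ := exists_pb' hg a2
  have a5 := mul_fixDim_le (A := zpowers g) h2 (r := 19) (s := 2) fun ψ b1 b2 => by
    have b3 := mul_fixDim_le_of_pb h12.toPB0 hg a4 ⟨ψ, b1⟩
    have b4 := h3 ψ b1 b2
    dsimp only at b3
    omega
  have a6 := sum_eq_of_const (A := zpowers g) (u := φ - ρ) (c := 1) fun v b1 b2 => by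
    have b3 : orderOf v = 11 := ((Nat.dvd_prime Fact.out).1 (hg ▸ orderOf_dvd_of_mem_zpowers
      b1)).resolve_left fun e => b2 (orderOf_eq_one_iff.1 e)
    rw [Pi.sub_apply, h4 v (by rw [b3]; norm_num), a3 v b3.symm.dvd,
      vanish Fact.out a2 (by rw [h1.dx]; norm_num) b3.symm.dvd]
    simp
  simp only [Pi.sub_apply, sum_sub_distrib, ← card_mul_fixDim h.chr, ← card_mul_fixDim h2,
    h.chr.apply_one_eq, h2.apply_one_eq, h.deg, h11, Nat.card_zpowers, hg] at a6
  have a7 := h.lift g (by rw [hg]; norm_num)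
  have a8 : fixDim φ (zpowers g) = 19 + fixDim ρ (zpowers g) := Nat.cast_injective (R := ℂ) (by
    push_cast at a6 ⊢
    linear_combination a6 / 11)
  omega

end Cfsg.Lib.LinP
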