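import Cfsg.Agent.Lib.LinP.P19
import Cfsg.Agent.Lib.PSL2.SmallIso
import Cfsg.Agent.S0497
import Cfsg.Agent.S0984
import Cfsg.Agent.S4488

/-!
# Linear groups of degree 3 and 4 with a non-normal Sylow 5- or 7-subgroup
-/

set_option autoImplicit false

namespace Cfsg.Lib.LinP

open Cfsg.Lib.Char Cfsg.Lib.Small Cfsg.Lib.Cyc Cfsg.Lib.Block Cfsg.Lib.Modular Subgroup Finset
open Cfsg.Lib.Alex
open scoped MatrixGroups

variable {G : Type*} [Group G] [Finite G] {p q : ℕ} {g u w : G} {φ χ : G → ℂ} {ξ : IrrCharacter G}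

theorem faithful_of_ne [IsSimpleGroup G] (h : ξ ≠ irrOne G) (g : G)
    (hg : (ξ : G → ℂ) g = (ξ : G → ℂ) 1) : g = 1 :=
  mem_bot.1 (ξ.2.charKer_eq_bot_of_isSimpleGroup (fun e => h (Subtype.ext e)) ▸
    ξ.2.isCharacter.mem_charKer_iff.2 hg)

theorem psl_of_half [Fact p.Prime] (hχ : IsIrrCharacter G χ) (hf : ∀ g, χ g = χ 1 → g = 1)
    (hd : 2 * charDegree χ + 1 = p) (hx : orderOf w = p) (hsq : ¬ p ^ 2 ∣ Nat.card G)
    (hn : ¬ (zpowers w).Normal) : Nonempty (G ⧸ center G ≃* PSL(2, ZMod p)) := by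
  obtain ⟨n, ρ, -, rfl⟩ := hχ
  exact quotient_equiv_psl ρ ((injective_iff_map_eq_one ρ).2 fun g hg =>
    hf g ((character_eq_character_one_iff ρ g).2 hg)) hx hsq hn (charDegree_character ρ ▸ hd)

theorem le_schur (hχ : IsCharacter G χ) (hf : ∀ g, χ g = χ 1 → g = 1) (h : ∀ g, ∃ n : ℤ, χ g = n)
    (hq : q.Prime) {k : ℕ} (hk : q ^ k ∣ Nat.card G) :
    k ≤ ∑ i ∈ range (charDegree χ + 1), charDegree χ / ((q - 1) * q ^ i) :=
  ((hq.pow_dvd_iff_le_factorization Nat.card_pos.ne').1 hk).trans (Agent.S4488.result q hq χ hχ hf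
    ⟨1, one_pos, hq.not_dvd_one, fun g => by
      obtain ⟨n, hn⟩ := h g
      exact hn ▸ intCast_mem _ n⟩ _ rfl)

theorem arith7 {x y z m n N r : ℕ} (h1 : 3 * 4 + 3 * N + (4 + 2) * n = (4 + 2) * (1 + m))
    (h2 : 4 ^ 2 = 1 + m * x + n * y + N * z + r) (h3 : x + 1 = y + z) (h4 : 7 ∣ y + 1)
    (h5 : 7 ∣ z + 4) (h6 : IsSquare (x * y * z)) :
    z = 3 ∨ x = 15 ∧ y = 6 ∧ z = 10 ∧ m = 1 ∧ n = 0 ∧ N = 0 ∧ r = 0 := by
  have a1 : x ≤ m * x := Nat.le_mul_of_pos_left x (by omega)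
  obtain rfl | ⟨rfl, rfl, rfl⟩ : z = 3 ∨ x = 15 ∧ y = 6 ∧ z = 10 := by omega
  · exact .inl rfl
  · omega

theorem arith7' {n i j k l a b e t : ℕ} (h1 : n = 2 ^ i * 3 ^ j * 5 ^ k * 7 ^ l)
    (h2 : n = 5 * (e * a)) (h3 : n = 7 * (3 * b)) (h4 : a % 5 = 1) (h5 : b % 7 = 1) (hi : i ≤ 10)
    (hj : j < 3) (hk : k < 2) (hl : l < 2) (he : e * t = 5 - 1) :
    e = 1 ∨ e = 2 ∧ n = 20160 ∨ n = 2520 := by
  have b1 : e ∣ 4 := Dvd.intro _ he
  have b2 := Nat.le_of_dvd four_pos b1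
  have b3 : n % 147 = 21 → (n % 25 = 10 → n = 20160) ∧ (n % 25 = 20 → n = 2520) := by
    rw [h1]
    clear * - hi hj hk hl
    interval_cases k <;> interval_cases l <;> interval_cases j <;> revert i <;> decide
  clear he h1
  interval_cases e <;> omega

theorem Qs.seven (h : Qs 7 3 4 w φ) :
    Nonempty (G ≃* PSL(2, ZMod 7)) ∨ Nonempty (G ≃* alternatingGroup (Fin 7)) := by
  classical
  have := h.simple
  have : Fact (Nat.Prime 7) := ⟨by norm_num⟩
  have : Fact (Nat.Prime 5) := ⟨by norm_num⟩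
  have hG := commutator_eq_top_of_simple h.ncomm
  obtain ⟨t, x, y, z, S, Y, a, ξ, η, θ, m, n, N, ρ, h1, h2, -, h4, h5, h6, h7, h8, h9, h10⟩ :=
    h.exists_th (by norm_num) rfl
  obtain rfl | ⟨rfl, rfl, rfl, rfl, rfl, rfl, h11⟩ := arith7 h5 h6 h7 h8 h9 h10
  · obtain ⟨e⟩ := psl_of_half θ.2 (faithful_of_ne (h1.ne_one h1.mem)) (by rw [h1.dz]) h.ord h1.not_sq
      fun e => e.eq_bot_or_eq_top.elim (fun e => by simpa [zpowers_eq_bot.1 e] using h.ord) fun e =>
        h.ncomm (isCyclic_iff_exists_zpowers_eq_top.2 ⟨w, e⟩).isMulCommutative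
    exact .inl ⟨(QuotientGroup.quotientBot.symm.trans (QuotientGroup.quotientMulEquivOfEq
      ((inferInstance : (center G).Normal).eq_bot_or_eq_top.resolve_right fun e =>
        h.ncomm (center_eq_top_iff.1 e)).symm)).trans e⟩
  have a1 : ∀ u : G, u ≠ 1 → ¬ 7 ∣ orderOf u →
      ∃ b : ℤ, (η : G → ℂ) u = (6 - b : ℤ) ∧ 0 < b ∧ b ≤ 8 := fun u hu hu' => by
    obtain ⟨b, c, hb, hc⟩ := h1.val (by norm_num) (by norm_num) (by norm_num) (by norm_num)
      (by norm_num) hu'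
    obtain ⟨b1, b2, -⟩ := h1.form hu' hb hc
    have b3 := int_lt_deg h1.ne₂ hu hb
    have b7 := int_lt_deg (h1.ne_one h1.mem) hu hc
    have b4 := h.nonneg u
    have b5 := re_le_deg h2 u
    rw [h4 u hu', b1, hb, hc] at b4
    rw [h1.dy] at b3
    rw [h1.dz] at b7
    rw [h11] at b5
    simp only [Complex.add_re, Complex.one_re, ← Int.cast_natCast (R := ℂ), ← Int.cast_mul,
      Complex.intCast_re] at b4
    have b6 : (0 : ℤ) ≤ 1 + (15 - (b + c)) := by
      rw [← Int.cast_le (R := ℝ)]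
      push_cast at b4 b5 ⊢
      linarith
    push_cast at b2
    exact ⟨b, hb, by omega, by nlinarith⟩
  have a2 : ∀ u : G, (orderOf u).Prime → orderOf u ≠ 7 → ∃ b : ℤ, (η : G → ℂ) u = (6 - b : ℤ) ∧
      0 < b ∧ b ≤ 8 ∧ (orderOf u : ℤ) ∣ b := fun u b1 b2 => by
    obtain ⟨b, b3, b4, b5⟩ := a1 u (fun e => b1.ne_one (orderOf_eq_one_iff.2 e))
      (not_dvd_of_prime Fact.out b1 b2)
    exact ⟨b, b3, b4, b5, by simpa [h1.dy] using prime_dvd_sub η.2.isCharacter b1 rfl b3⟩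
  obtain ⟨i, j, k, l, a3⟩ := exists_eq_pow_of_sm7 (m := Nat.card G) (fun r b1 b2 => by
    have := Fact.mk b1
    obtain ⟨u, rfl⟩ := exists_prime_orderOf_dvd_card' r b2
    by_cases b3 : orderOf u = 7
    · rw [b3]; norm_num
    obtain ⟨b, -, b4, b5, b6⟩ := a2 u b1 b3
    have b7 := Int.le_of_dvd b4 b6
    have b8 : orderOf u ≤ 8 := by omega
    generalize orderOf u = r at b1 b8
    interval_cases r <;> simp_all (config := {decide := true})) Nat.card_pos.ne'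
  have a4 := fun q hq k => le_schur (q := q) (k := k) η.2.isCharacter (faithful_of_ne h1.ne₂)
    (fun u => by
      by_cases b1 : 7 ∣ orderOf u
      · exact ⟨_, h1.singS η h1.mem₂ u b1⟩
      · obtain ⟨b, c, hb, -⟩ := h1.val (by norm_num) (by norm_num) (by norm_num) (by norm_num)
          (by norm_num) b1
        exact ⟨_, hb⟩) hq
  rw [h1.dy] at a4
  have a5 : ¬ 5 ^ 2 ∣ Nat.card G := fun e => absurd (a4 5 Fact.out 2 e) (by decide)
  have a6 : ¬ 3 ^ 3 ∣ Nat.card G := fun e => by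
    obtain ⟨M, hM⟩ := exists_isPModular Nat.prime_three
    have : Modular 3 M := ⟨hM⟩
    have b1 := (pow_dvd_pow _ ((Nat.prime_three.pow_dvd_iff_le_factorization
      Nat.card_pos.ne').1 e)).trans (h1.bt' M (by norm_num))
    obtain ⟨u, b2, b3⟩ := exists_central ((dvd_pow_self 3 three_ne_zero).trans e)
    obtain ⟨c, b4, b5, b6, -⟩ := a2 u (b2 ▸ Nat.prime_three) (by omega)
    have b7 := cc (k := 1) (show η ∈ principalBlock M G by
      by_contra b7
      rw [if_neg b7] at b1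
      split_ifs at b1 <;> norm_num at b1) b3 b4 (by rw [h1.dy]; norm_num)
    rw [h1.dy] at b7
    omega
  obtain ⟨g, hg⟩ := exists_prime_orderOf_dvd_card' (G := G) 5
    ((show 5 ∣ _ by rw [h1.dz]; norm_num).trans θ.2.charDegree_dvd_card)
  have a7 : ∀ v : G, 5 ∣ orderOf v → ¬ 7 ∣ orderOf v := fun v b1 b2 => by
    have := orderOf_eq_of_selfCent h1.toPB0 h1.ord h1.cent b2
    omega
  have a8 := card_cent_eq Fact.out hg a5 fun u b1 b2 b3 => by
    obtain ⟨b, b5, b6, b7, b8⟩ := a2 u b1 fun e => by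
      have b4 := a7 (u * g)
      rw [b3.orderOf_mul_eq_mul_orderOf_of_coprime (by rw [hg, e]; norm_num), hg, e] at b4
      omega
    have b9 := dvd_of_commute (b := 1) η.2.isCharacter Fact.out hg (not_dvd_of_prime Fact.out b1 b2)
      b3 (fun v hv => by
        have b9 := h1.reg1 (a7 v hv)
        rw [vanish (ξ := ξ) Fact.out a5 (by rw [h1.dx]; norm_num) hv,
          vanish (ξ := θ) Fact.out a5 (by rw [h1.dz]; norm_num) hv] at b9
        push_cast at b9 ⊢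
        linear_combination -b9) b5
    obtain rfl : b = 5 := by omega
    exact b2 ((Nat.prime_dvd_prime_iff_eq b1 Fact.out).1 (by exact_mod_cast b8))
  obtain ⟨P, hP⟩ := exists_sylow_eq_zpowers hg a5
  have a9 : Nat.card P = 5 := by rw [hP, Nat.card_zpowers, hg]
  obtain ⟨t', S', Y', a', δ', h12⟩ := exists_pb P a9
  rw [hP, centralizer_zpowers, centralizer_eq_zpowers hg a8, ← hP] at h12
  obtain e | ⟨e, b6⟩ | e := arith7' a3 (h12.card_eq hg a8) (h1.card_eq h.ord h.cent)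
    (card_sylow_modEq_one 5 G) (card_sylow_modEq_one 7 G)
    (a4 2 Nat.prime_two i ⟨3 ^ j * 5 ^ k * 7 ^ l, by rw [a3]; ring⟩)
    (not_le.1 fun e => a6 ((pow_dvd_pow 3 e).trans ⟨2 ^ i * 5 ^ k * 7 ^ l, by rw [a3]; ring⟩))
    (not_le.1 fun e => a5 ((pow_dvd_pow 5 e).trans ⟨2 ^ i * 3 ^ j * 7 ^ l, by rw [a3]; ring⟩))
    (not_le.1 fun e => h1.not_sq ((pow_dvd_pow 7 e).trans ⟨2 ^ i * 3 ^ j * 5 ^ k, by rw [a3]; ring⟩))
    h12.mul
  · obtain ⟨θ', b1⟩ := h12.nonempty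
    have b2 := h12.sum_deg' b1
    have b3 := one_lt_charDegree hG (h12.ne_one b1)
    rw [card_eq_zero.1 (Nat.succ_injective (h12.card_erase.trans e)), sum_empty] at b2
    rcases h12.sign with rfl | rfl <;> omega
  · obtain ⟨t', x', y', S', Y', a', δ', χ', θ', w', b1⟩ := exists_al hG P a9 e
    obtain ⟨m, k', f, b2⟩ := b1.exists_dh hG (by norm_num) ((show 2 ∣ 4 by norm_num).trans h.dvd)
    have b3 := b2.hy
    have b4 := b2.hk
    have b5 := b2.card
    obtain b7 | b7 := b1.mem_of_not_dvd b1.ord b1.cent (χ := η) (by rw [h1.dy]; norm_num)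
    · obtain rfl : x' = 6 := b1.dx.symm.trans (((b1.cases η b7).resolve_left h1.ne₂) ▸ h1.dy)
      obtain rfl : y' = 7 := by rcases b2.sign with rfl | rfl <;> omega
      have b8 : m < 10 := lt_of_pow_lt_pow_left₀ 2 (Nat.zero_le _) (by omega)
      interval_cases m <;> omega
    · obtain rfl : y' = 6 := b1.dy.symm.trans ((b1.deg_eq b7 b1.mem).trans h1.dy)
      rcases b2.sign with rfl | rfl <;> omega
  · exact .inr (Agent.S0984.result e)

theorem Qs.five (h : Qs 5 2 3 w φ) :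
    Nonempty (G ≃* PSL(2, ZMod 5)) ∨ Nonempty (G ≃* alternatingGroup (Fin 6)) := by
  have := h.simple
  have := Fintype.ofFinite G
  have : Fact (Nat.Prime 5) := ⟨by norm_num⟩
  have hG := commutator_eq_top_of_simple h.ncomm
  obtain ⟨P, h1, h2⟩ := h.idx
  obtain ⟨t, x, y, S, Y, a, δ, χ, θ, w', h3⟩ := exists_al hG P h1 h2
  obtain ⟨n, N, ρ, h4, h5, -, h7, h8⟩ := decompose h3.toPB0 h3.mem h.ord h.cent h.chr
  have h9 : n (irrOne G) = 1 := Nat.cast_injective (R := ℂ) ((h4 _).symm.trans (by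
    rw [coe_irrOne, Nat.cast_one]; exact h.inner))
  simp only [h3.hS, h9, irrOne_apply, Nat.cast_one, one_mul, h3.a_one, h3.sgn, h.fix, h.deg] at h7 h8
  have h10 := h7 1 h3.not_dvd_one
  rw [h.chr.apply_one_eq, h5.apply_one_eq, χ.2.apply_one_eq, θ.2.apply_one_eq, h.deg, h3.dx,
    h3.dy] at h10
  norm_cast at h10
  have a1 := h3.modS h3.memS
  have a2 := h3.hy
  have a3 := one_lt_charDegree hG h3.ne
  rw [h3.dx] at a1 a3
  rw [h3.sgn] at a1
  have a4 : x = 4 ∧ y = 3 ∨ x = 9 ∧ y = 8 := by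
    have := fun e => Nat.le_mul_of_pos_left x (n := n χ) e
    have := fun e => Nat.le_mul_of_pos_left y (n := N) e
    rcases h3.sign' with rfl | rfl <;> omega
  have a5 : 2 ∣ Nat.card G := a4.elim
    (fun e => (show 2 ∣ _ by rw [h3.dx]; omega).trans χ.2.charDegree_dvd_card)
    fun e => (show 2 ∣ _ by rw [h3.dy]; omega).trans θ.2.charDegree_dvd_card
  obtain ⟨m, k, f, h11⟩ := h3.exists_dh hG (by norm_num) a5
  have a6 := h11.mem hG le_rfl a5 fun r b1 b2 => by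
    have := Fact.mk b1
    obtain ⟨u, hu⟩ := exists_prime_orderOf_dvd_card' (G := G) r (h11.card ▸ b2.mul_left 5)
    obtain ⟨j, -, b3, b4, -⟩ := h11.exists_nat b1 (fun e => h11.ndvd (e ▸ b2)) hu
    have b5 := (Nat.le_mul_of_pos_right _ b3).trans b4
    have b6 : r ≤ 10 := by omega
    clear * - b1 b6
    interval_cases r <;> simp_all (config := {decide := true})
  have a7 := h11.card
  obtain ⟨rfl, rfl⟩ | ⟨rfl, rfl⟩ := a4 <;> obtain rfl : m = 1 := by simpa [survivors] using a6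
  · obtain ⟨e⟩ := equiv_alt_five_of_simple a7
    obtain ⟨e'⟩ := PSL2.equiv_psl_alt_five (F := ZMod 5) (.inr (by simp))
    exact .inl ⟨e.trans e'.symm⟩
  · exact .inr (Agent.S0497.result a7)

end Cfsg.Lib.LinP
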