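import Cfsg.Agent.Lib.LinP.Blk
import Cfsg.Agent.Lib.Cyc.PTwo2

/-!
# The central factor group of a linear group with an exceptional character of small degree
-/

set_option autoImplicit false

namespace Cfsg.Lib.LinP

open Cfsg.Lib.Char Cfsg.Lib.Small Cfsg.Lib.Cyc Subgroup Finset
open scoped ComplexConjugate

theorem sum_mul_conj_root {ι : Type*} (s : Finset ι) {ν : ι → ℂ} {n : ℕ} (hn : n ≠ 0)
    (h1 : ∀ i ∈ s, ν i ^ n = 1) (h2 : Set.InjOn ν s) (c : ι → ℕ) :
    ∑ k ∈ range n, (∑ i ∈ s, c i * ν i ^ k) * conj (∑ i ∈ s, c i * ν i ^ k) =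
      n * ∑ i ∈ s, (c i : ℂ) ^ 2 := by
  classical
  simp only [map_sum, sum_mul_sum]
  rw [sum_comm, mul_sum]
  refine sum_congr rfl fun i hi => ?_
  rw [sum_comm, sum_eq_single_of_mem i hi fun j hj e => ?_]
  · have h3 := (mem_mu hn).2 (h1 i hi)
    simp only [map_mul, map_pow, conj_eq_inv_of_mem_mu h3, map_natCast, mul_mul_mul_comm _ (_ ^ _),
      ← mul_pow, mul_inv_cancel₀ (mu_ne_zero h3), one_pow, mul_one, sum_const, card_range,
      nsmul_eq_mul, sq]
  · have h3 := (mem_mu hn).2 (h1 j hj)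
    simp only [map_mul, map_pow, conj_eq_inv_of_mem_mu h3, map_natCast, mul_mul_mul_comm _ (_ ^ _),
      ← mul_pow, ← mul_sum]
    rw [Cyc.sum_range_pow (by rw [mul_pow, inv_pow, h1 i hi, h1 j hj, inv_one, one_mul]),
      if_neg fun h => e (h2 hj hi ((mul_inv_eq_one₀ (mu_ne_zero h3)).1 h).symm), mul_zero]

variable {G : Type*} [Group G] [Finite G] {p e t : ℕ} {x z : G} {χ : G → ℂ}

theorem pow_degree_eq_one (hχ : IsIrrCharacter G χ) (hf : ∀ g, χ g = χ 1 → g = 1)
    (hz : z ∈ center G) (h : z ∈ commutator G) : z ^ charDegree χ = 1 := by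
  obtain ⟨d, ρ, hρ, rfl⟩ := hχ
  obtain ⟨c, hc⟩ := exists_eq_smul_of_commute ρ (ρ z) fun g => by
    rw [← Module.End.mul_eq_comp, ← Module.End.mul_eq_comp, ← map_mul, ← map_mul,
      mem_center_iff.1 hz g]
  have h1 : LinearMap.det (ρ z) = 1 :=
    congrArg Units.val (Abelianization.commutator_subset_ker (LinearMap.det.comp ρ).toHomUnits h)
  rw [hc, LinearMap.det_smul, LinearMap.det_id, mul_one] at h1
  refine hf _ ((character_eq_character_one_iff ρ _).2 ?_)
  rw [map_pow, hc, charDegree_character, ← Module.End.one_eq_id, smul_pow, h1, one_pow, one_smul]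

/-- The data on the central factor group. -/
structure Qs (p e d : ℕ) {H : Type*} [Group H] (w : H) (φ : H → ℂ) : Prop where
  simple : IsSimpleGroup H
  ncomm : ¬ IsMulCommutative H
  ord : orderOf w = p
  cent : Nat.card (centralizer ({w} : Set H)) = p
  pb : ∃ t S Y a δ, PB (G := H) p e t S Y a δ
  idx : ∃ P : Sylow p H, Nat.card P = p ∧
    (P : Subgroup H).relIndex (normalizer ((P : Subgroup H) : Set H)) = e
  chr : IsCharacter H φ
  inner : ∀ [Fintype H], classInner φ (fun _ => 1) = 1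
  deg : charDegree φ = d ^ 2
  fix : fixDim φ (zpowers w) = d
  nonneg : ∀ g, 0 ≤ (φ g).re
  dvd : d ∣ Nat.card H
  lift : ∀ g : H, (orderOf g).Coprime d → 3 * d ≤ fixDim φ (zpowers g) + 2 * orderOf g

theorem exists_qs [hp : Fact p.Prime] (hχ : IsIrrCharacter G χ) (hf : ∀ g, χ g = χ 1 → g = 1)
    (hd : charDegree χ + 2 ≤ p) (hx : orderOf x = p) (hsq : ¬ p ^ 2 ∣ Nat.card G)
    (hn : ¬ (zpowers x).Normal) (h3 : 3 < p) (he : (centralizer (zpowers x : Set G)).relIndex
      (normalizer (zpowers x : Set G)) = e) (he' : e.Prime) {Y : Finset (IrrCharacter G)}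
    (hF : Fam p (zpowers x) e t Y) (hθ : (⟨χ, hχ⟩ : IrrCharacter G) ∈ Y) :
    ∃ φ, Qs p e (charDegree χ) (x : G ⧸ center G) φ := by
  classical
  obtain ⟨P, hP⟩ := exists_sylow_eq_zpowers hx hsq
  have a0 : x ^ p = 1 := hx ▸ pow_orderOf_eq_one x
  have a1 : ∀ y y' : G, y ^ p = 1 → y' ^ p = 1 → (y : G ⧸ center G) = y' → y = y' :=
    fun y y' h1 h2 h => by
      have h4 := QuotientGroup.eq.1 h
      have h5 : (y * (y⁻¹ * y')) ^ p = 1 := by rwa [mul_inv_cancel_left]
      rw [Commute.mul_pow (mem_center_iff.1 h4 y), h1, one_mul] at h5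
      exact inv_mul_eq_one.1 (orderOf_eq_one_iff.1 (((Nat.dvd_prime hp.out).1
        (orderOf_dvd_of_pow_eq_one h5)).resolve_right fun e =>
          Blau.not_dvd_of_center hx hsq hn h4 e.symm.dvd))
  have a2 : ∀ (g : G) (k : ℤ), (g : G ⧸ center G) * x * (g : G ⧸ center G)⁻¹ = (x : G ⧸ center G) ^ k →
      g * x * g⁻¹ = x ^ k := fun g k h => a1 _ _ (by rw [conj_pow, a0]; simp)
    (by rw [← zpow_natCast, ← zpow_mul, mul_comm, zpow_mul, zpow_natCast, a0, one_zpow]) h
  have a3 : orderOf (x : G ⧸ center G) = p := orderOf_eq_prime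
    (by rw [← QuotientGroup.mk_pow, a0]; rfl) fun h =>
      hp.out.ne_one (hx.symm.trans (orderOf_eq_one_iff.2 (a1 x 1 a0 (one_pow p) h)))
  have a4 : (centralizer (zpowers (x : G ⧸ center G) : Set (G ⧸ center G))).comap
      (QuotientGroup.mk' _) = centralizer (zpowers x : Set G) := by
    rw [centralizer_zpowers, centralizer_zpowers]
    ext g
    rw [mem_comap, mem_centralizer_singleton_iff_conj, mem_centralizer_singleton_iff_conj]
    exact ⟨fun h => by simpa using a2 g 1 (by simpa using h), congrArg (QuotientGroup.mk' _)⟩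
  have a5 : (normalizer (zpowers (x : G ⧸ center G) : Set (G ⧸ center G))).comap
      (QuotientGroup.mk' _) = normalizer (zpowers x : Set G) := by
    ext g
    refine ⟨fun h => ?_, fun h => ?_⟩
    · obtain ⟨k, hk⟩ := (mem_normalizer_iff.1 h _).1 (mem_zpowers _)
      exact PGroup.mem_normalizer_zpowers (a2 g k hk.symm)
    · obtain ⟨k, hk⟩ := (mem_normalizer_iff.1 h _).1 (mem_zpowers _)
      exact PGroup.mem_normalizer_zpowers (k := k) (congrArg (QuotientGroup.mk' _) hk.symm)
  have a6 : centralizer (zpowers (x : G ⧸ center G) : Set (G ⧸ center G)) =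
      zpowers (x : G ⧸ center G) := by
    refine le_antisymm (fun g hg => ?_) (le_centralizer _)
    obtain ⟨g, rfl⟩ := QuotientGroup.mk_surjective g
    obtain ⟨z, hz, _, h, -, rfl⟩ := Fam.exists_mul (hP ▸ hF) hθ hf (hP ▸ a4.le hg)
    obtain ⟨k, rfl⟩ := hP.le h
    exact ⟨k, by simp [(QuotientGroup.eq_one_iff z).2 hz]⟩
  obtain ⟨Q, hQ⟩ := exists_sylow_eq_zpowers a3 fun h => hsq (h.trans (card_quotient_dvd_card _))
  have a7 : Nat.card Q = p := by rw [hQ, Nat.card_zpowers, a3]
  rw [← a4, ← a5, relIndex_comap, map_comap_eq_self_of_surjective (QuotientGroup.mk'_surjective _)] at he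
  have a8 : ¬ (zpowers (x : G ⧸ center G)).Normal := fun h => hn (normalizer_eq_top_iff.1 (by
    rw [← a5, normalizer_eq_top_iff.2 h, comap_top]))
  have a9 : IsSimpleGroup (G ⧸ center G) := isSimpleGroup_of_dvd (fun K hK h => by
    by_contra h1
    have h2 := map_mono (f := QuotientGroup.mk' (center G)) (le_centralizer_of_small P
      (by rw [hP, Nat.card_zpowers, hx]) hχ.isCharacter hf hd (K := K.comap (QuotientGroup.mk' _))
      (fun h2 => by
        obtain ⟨y, h4, h5⟩ := exists_mem_orderOf_eq_prime hp.out h2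
        have h6 : y ^ p = 1 := h5 ▸ pow_orderOf_eq_one y
        exact hp.out.ne_one (h5.symm.trans (orderOf_eq_one_iff.2 (a1 y 1 h6 (one_pow p)
          (orderOf_eq_one_iff.1 (Nat.eq_one_of_dvd_coprimes (hp.out.coprime_iff_not_dvd.2 h1)
            (h5 ▸ orderOf_map_dvd (QuotientGroup.mk' _) y) (K.orderOf_dvd_natCard h4))))))))
    rw [hP, ← a4, map_comap_eq_self_of_surjective (QuotientGroup.mk'_surjective _),
      map_comap_eq_self_of_surjective (QuotientGroup.mk'_surjective _), a6] at h2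
    have h4 := card_dvd_of_le h2
    rw [Nat.card_zpowers, a3, Nat.dvd_prime hp.out] at h4
    exact h4.elim (fun e => h (card_eq_one.1 e)) fun e => h1 e.symm.dvd) Q a7 (hQ ▸ a8)
    (by rwa [hQ, ← congrArg (relIndex · _) a6, he])
  have a10 : ¬ IsMulCommutative (G ⧸ center G) := fun _ => a8 inferInstance
  obtain ⟨φ, b1, b2⟩ := (hχ.isCharacter.mul hχ.conj.isCharacter).exists_deflate (center G)
    fun z hz => by
      rw [Pi.mul_apply, Pi.mul_apply, Complex.mul_conj', Complex.mul_conj',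
        hχ.isCharacter.mem_charCenter_iff.1 (hχ.center_le_charCenter hz)]
  have b3 : ∀ g : G, orderOf (g : G ⧸ center G) * (fixDim φ (zpowers (g : G ⧸ center G)) : ℂ) =
      ∑ k ∈ range (orderOf (g : G ⧸ center G)), χ (g ^ k) * conj (χ (g ^ k)) := fun g =>
    (card_mul_fixDim_zpowers b1 rfl).trans (sum_congr rfl fun k _ => b2 (g ^ k))
  refine ⟨φ, a9, a10, a3, by rw [← centralizer_zpowers, a6, Nat.card_zpowers, a3],
    he ▸ hQ ▸ exists_pb Q a7, ⟨Q, a7, by rwa [hQ, ← congrArg (relIndex · _) a6]⟩, b1, ?_,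
    charDegree_eq_of_apply_one ((b2 1).trans (by simp [hχ.apply_one_eq, sq])), ?_, fun g => ?_,
    hχ.charDegree_dvd_index_center, fun g hg => ?_⟩
  · intro _
    have := Fintype.ofFinite G
    rw [← classInner_comp_surjective (QuotientGroup.mk' _) (QuotientGroup.mk'_surjective _)]
    exact (congrArg (classInner · fun _ => (1 : ℂ)) (funext b2)).trans
      ((classInner_eq_inner_one χ χ).symm.trans hχ.inner_self)
  · obtain ⟨a, J, h1, h2, -, h4⟩ := irr_eig' hχ hf hd hx hsq hn h3
    have h5 : (1 : ℂ) ∉ J := fun h => (h2 1 h).2 rfl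
    have h6 : ∀ F : ℕ → ℂ → ℂ, ∑ ω ∈ insert 1 J, F (if ω = 1 then a else 1) ω =
        F a 1 + ∑ ω ∈ J, F 1 ω := fun F => by
      rw [sum_insert h5, if_pos rfl, sum_congr rfl fun ω hω => by rw [if_neg (h2 ω hω).2]]
    have h7 := sum_mul_conj_root (insert 1 J) (ν := id) hp.out.ne_zero (fun ω hω =>
      (mem_insert.1 hω).elim (fun e => by simp [e]) fun h => (h2 ω h).1) (Set.injOn_id _)
      fun ω => if ω = 1 then a else 1
    have h8 := b3 x
    rw [a3, sum_congr rfl fun k _ => by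
      rw [show χ (x ^ k) = _ from (h4 k).trans (Eq.symm ((h6 fun c ω => c * ω ^ k).trans (by simp)))]]
      at h8
    have h9 := h4 0
    rw [h6 fun c _ => (c : ℂ) ^ 2] at h7
    have h10 := mul_left_cancel₀ (Nat.cast_ne_zero.2 hp.out.ne_zero) (h8.trans h7)
    simp only [pow_zero, sum_const, nsmul_one, hχ.apply_one_eq, Nat.cast_one, one_pow] at h9 h10
    norm_cast at h9 h10
    rw [h9, h10]
    interval_cases a <;> rfl
  · obtain ⟨g, rfl⟩ := QuotientGroup.mk_surjective g
    rw [b2, Pi.mul_apply, Complex.mul_conj, Complex.ofReal_re]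
    exact Complex.normSq_nonneg _
  · obtain ⟨y, hy, rfl⟩ : g ∈ (commutator G).map (QuotientGroup.mk' _) := by
      rw [map_commutator_eq, MonoidHom.range_eq_top.2 (QuotientGroup.mk'_surjective _)]
      exact (commutator_eq_top_of_simple a10).ge (mem_top g)
    change (orderOf (y : G ⧸ center G)).Coprime _ at hg
    change _ ≤ fixDim φ (zpowers (y : G ⧸ center G)) + 2 * orderOf (y : G ⧸ center G)
    have h0 := (orderOf_pos (y : G ⧸ center G)).ne'
    obtain ⟨k, -, hk⟩ := Nat.exists_mul_mod_eq_of_coprime 1 hg.symm h0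
    have h1 : ((y ^ (charDegree χ * k) : G) : G ⧸ center G) = y := by
      rw [QuotientGroup.mk_pow, ← pow_mod_orderOf, hk, pow_mod_orderOf, pow_one]
    have h2 := b3 (y ^ (charDegree χ * k))
    rw [h1] at h2
    have h4 : (y ^ (charDegree χ * k)) ^ orderOf (y : G ⧸ center G) = 1 := by
      rw [← pow_mul, mul_comm, ← mul_assoc, pow_mul, pow_mul, pow_degree_eq_one hχ hf
        ((QuotientGroup.eq_one_iff _).1 (pow_orderOf_eq_one (y : G ⧸ center G))) (pow_mem hy _),
        one_pow]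
    generalize orderOf (y : G ⧸ center G) = n at *
    have : NeZero n := ⟨h0⟩
    obtain ⟨ζ, hζ⟩ : ∃ ζ : ℂ, IsPrimitiveRoot ζ n := ⟨_, Complex.isPrimitiveRoot_exp n h0⟩
    obtain ⟨m, h5, -⟩ := exists_mult hχ.isCharacter hζ h4
    have h6 := h5 0
    simp only [h5] at h2
    simp only [pow_mul] at h2
    rw [sum_mul_conj_root _ h0 (fun j _ => by rw [← pow_mul, mul_comm, pow_mul, hζ.pow_eq_one, one_pow])
      (fun i _ j _ h => Fin.ext (hζ.pow_inj i.2 j.2 h)), mul_right_inj' (Nat.cast_ne_zero.2 h0)] at h2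
    simp only [pow_zero, mul_zero, mul_one, hχ.apply_one_eq] at h6
    norm_cast at h2 h6
    rw [h2, h6, mul_sum]
    refine (sum_le_sum (g := fun j => m j ^ 2 + 2) fun j _ => ?_).trans_eq (by
      simp [sum_add_distrib, mul_comm])
    rcases m j with _ | _ | k
    · omega
    · omega
    · nlinarith

end Cfsg.Lib.LinP
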