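import Cfsg.Agent.Lib.LinP.Bl

/-!
# Linear groups of degree less than `p - 1` generated by `p`-elements
-/

set_option autoImplicit false

namespace Cfsg.Lib.LinP

open Module Cfsg.Lib.Cyc Subgroup Cfsg.Lib.Char Cfsg.Lib.Core Cfsg.Lib.CharDeg Cfsg.Lib.Small
open scoped commutatorElement

variable {G V : Type*} [Group G] [AddCommGroup V] [Module ℂ V] {p : ℕ} {x y z : G}

/-- The span of the nontrivial eigenspaces. -/
abbrev tt (ρ : Representation ℂ G V) (x : G) : Submodule ℂ V := LinearMap.range (ρ x - 1)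

/-- Good elements. -/
structure Gd (p : ℕ) (ρ : Representation ℂ G V) (x : G) : Prop where
  ord : orderOf x = p
  le : p ≤ 2 * finrank ℂ (tt ρ x) + 1
  simple : ∀ ω, ω ≠ 1 → finrank ℂ (End.eigenspace (ρ x) ω) ≤ 1
  cent : ∀ (c : End ℂ V) (n : ℕ), n ≠ 0 → c ^ n = 1 → (∀ y, Commute c (ρ y)) →
    ∃ ν : ℂ, ∀ v ∈ tt ρ x, c v = ν • v
  inv : p = 5 → finrank ℂ V = 3 → ∃ t ∈ normalClosure {x}, finrank ℂ (End.eigenspace (ρ t) (-1)) = 2

theorem PE.mem_of_index [Finite G] [hp : Fact p.Prime] (h : PE p y) {M : Subgroup G} [M.Normal]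
    (hM : ¬ p ∣ M.index) : y ∈ M := by
  obtain ⟨k, hk⟩ := h.map (QuotientGroup.mk' M)
  exact (QuotientGroup.eq_one_iff y).1 (orderOf_eq_one_iff.1 (Nat.eq_one_of_dvd_coprimes
    ((hp.out.coprime_iff_not_dvd.2 hM).pow_left k) (orderOf_dvd_of_pow_eq_one hk)
    (orderOf_dvd_natCard _)))

theorem PE.orderOf_eq [hp : Fact p.Prime] (h : PE p y) (h1 : y ≠ 1) (hsq : ¬ p ^ 2 ∣ Nat.card G) :
    orderOf y = p := by
  obtain ⟨k, hk⟩ := h
  obtain ⟨j, -, hj⟩ := (Nat.dvd_prime_pow hp.out).1 (orderOf_dvd_of_pow_eq_one hk)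
  rcases j with _ | _ | j
  · exact absurd (orderOf_eq_one_iff.1 hj) h1
  · rw [hj, zero_add, pow_one]
  · exact absurd ((pow_dvd_pow p (by omega)).trans (hj ▸ orderOf_dvd_natCard y)) hsq

theorem exists_mul_of_center {O N : Subgroup G} (hO : O ≤ center G) (h : O ⊔ N = ⊤) (g : G) :
    ∃ z ∈ O, ∃ a ∈ N, z * a = g :=
  have : O.Normal := ⟨fun a ha g => by rwa [mem_center_iff.1 (hO ha) g, mul_inv_cancel_right]⟩
  mem_sup_of_normal_left.1 (h.ge (mem_top g))

theorem commutator_le_of_center {O N : Subgroup G} (hO : O ≤ center G) (h : O ⊔ N = ⊤) :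
    commutator G ≤ ⁅N, N⁆ := commutator_le.2 fun g _ k _ => by
  obtain ⟨z, hz, a, ha, rfl⟩ := exists_mul_of_center hO h g
  obtain ⟨w, hw, b, hb, rfl⟩ := exists_mul_of_center hO h k
  have h1 := mem_center_iff.1 (hO hz)
  have h2 := mem_center_iff.1 (hO hw)
  rw [show ⁅z * a, w * b⁆ = ⁅a, b⁆ by
    rw [commutatorElement_def, commutatorElement_def, mul_inv_rev, mul_inv_rev,
      show z * a * (w * b) * (a⁻¹ * z⁻¹) * (b⁻¹ * w⁻¹) = z * (a * w * b * a⁻¹) * z⁻¹ * b⁻¹ * w⁻¹
      by group, ← h1, mul_inv_cancel_right, h2 a, mul_assoc w, mul_assoc w, mul_assoc w, ← h2,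
      mul_inv_cancel_right]]
  exact commutator_mem_commutator ha hb

variable [Finite G] [FiniteDimensional ℂ V] [hp : Fact p.Prime] {ρ : Representation ℂ G V}
  (hρ : Function.Injective ρ)
include hρ

omit hp in
theorem faithful (g : G) (h : ρ.character g = ρ.character 1) : g = 1 :=
  hρ (((character_eq_character_one_iff ρ g).1 h).trans ρ.map_one.symm)

theorem comm_of_isPGroup (hd : finrank ℂ V < p) {A : Subgroup G} (hA : IsPGroup p A) (hx : x ∈ A)
    (hy : y ∈ A) : x * y = y * x :=
  congrArg Subtype.val (((linDeg_of_faithful (isCharacter_character ρ) (faithful hρ)).subgroup A).comm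
    (fun q hq h4 => by
      obtain ⟨k, hk⟩ := hA.exists_card_eq
      rwa [(Nat.prime_dvd_prime_iff_eq hq hp.out).1 (hq.dvd_of_dvd_pow (hk ▸ h4)),
        charDegree_character]) ⟨x, hx⟩ ⟨y, hy⟩)

theorem commute_of_pCore (hd : finrank ℂ V < p) (hz : z ∈ pCore p G) (hy : PE p y) : z * y = y * z :=
  comm_of_isPGroup hρ hd (hy.isPGroup.to_sup_of_normal_right (pCore_isPGroup p G))
    (mem_sup_right hz) (mem_sup_left (mem_zpowers y))

theorem pCore_le_center (hd : finrank ℂ V < p) (hg : Gen p G) : pCore p G ≤ center G :=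
  fun z hz => mem_center_iff.2 fun g => mem_centralizer_singleton_iff.1
    ((hg _ fun _ hy => mem_centralizer_singleton_iff.2 (commute_of_pCore hρ hd hz hy).symm).ge
      (mem_top g))

variable (hd : finrank ℂ V + 2 ≤ p) (h3 : 3 < p) (hg : Gen p G) (hP : ¬ IsPGroup p G)
  (hsq : ¬ p ^ 2 ∣ (pCore p G).index)
include hd hg

theorem index_pCore {N : Subgroup G} (hN : N ≤ commutator G) :
    Nat.card N * (N ⊔ pCore p G).index = (pCore p G).index := by
  obtain ⟨P⟩ : Nonempty (Sylow p G) := inferInstance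
  have h1 := Transfer.center_inf_commutator_inf_sylow_le P
  rw [commutator_eq_bot_iff_le_centralizer.2 fun a ha b hb =>
    comm_of_isPGroup hρ (by omega) P.2 hb ha] at h1
  rw [← relIndex_mul_index (le_sup_right (a := N) (b := pCore p G)), relIndex_sup_right N,
    ← inf_relIndex_right (pCore p G),
    eq_bot_iff.2 ((le_inf (inf_le_inf (pCore_le_center hρ (by omega) hg) hN)
      (inf_le_left.trans (pCore_le_sylow P))).trans h1), relIndex_bot_left]

include hsq

theorem sup_eq_top {N : Subgroup G} [N.Normal] (hN : N ≤ commutator G) (h : p ∣ Nat.card N) :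
    pCore p G ⊔ N = ⊤ := hg _ fun y hy => hy.mem_of_index fun e => hsq (by
  rw [← index_pCore hρ hd hg hN, sq, sup_comm]
  exact mul_dvd_mul h e)

omit hsq in
include hP in
theorem dvd_card_commutator : p ∣ Nat.card (commutator G) := by
  by_contra h
  obtain ⟨P⟩ : Nonempty (Sylow p G) := inferInstance
  have := (ito_of_isPSolvable (isPSolvable_of_normal_quotient _ (isPSolvable_of_coprime
    (hp.out.coprime_iff_not_dvd.2 h).symm) (isPSolvable_of_isSolvable
      (inferInstanceAs (Group.IsSolvable (Abelianization G))))) P (isCharacter_character ρ)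
    (faithful hρ) (fun e => hP (hg.isPGroup P e)) (by rw [charDegree_character]; omega)).1
  rw [charDegree_character] at this
  omega

include h3

theorem gd_of_mem (hx : x ∈ commutator G) (h1 : x ≠ 1) (h : PE p x) : Gd p ρ x := by
  have hO := pCore_le_center hρ (by omega) hg
  have a1 : ¬ p ^ 2 ∣ Nat.card (commutator G) := fun e =>
    hsq (e.trans ⟨_, (index_pCore hρ hd hg le_rfl).symm⟩)
  have a2 : orderOf (⟨x, hx⟩ : commutator G) = p :=
    (h.coe hx).orderOf_eq (fun e => h1 (congrArg Subtype.val e)) a1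
  have a3 : orderOf x = p := (orderOf_mk x hx).symm.trans a2
  have a4 := sup_eq_top hρ hd hg hsq le_rfl (a2 ▸ orderOf_dvd_natCard _)
  have a5 : commutator (commutator G) = ⊤ := map_subtype_inj.1 (by
    rw [map_subtype_commutator, ← MonoidHom.range_eq_map, range_subtype]
    exact le_antisymm (commutator_le_left _ _) (commutator_le_of_center hO a4))
  have a6 : commutator G ≤ normalClosure {x} := (commutator_le_of_center hO (sup_eq_top hρ hd hg hsq
    (normalClosure_le_normal (by simpa)) (a3 ▸ orderOf_dvd_natCard _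
      (subset_normalClosure rfl)))).trans (commutator_le_left _ _)
  have a7 : normalClosure {(⟨x, hx⟩ : commutator G)} = ⊤ := by
    have : ((normalClosure {(⟨x, hx⟩ : commutator G)}).map (commutator G).subtype).Normal :=
      ⟨by
        rintro _ ⟨n, hn, rfl⟩ g
        obtain ⟨z, hz, a, ha, rfl⟩ := exists_mul_of_center hO a4 g
        refine ⟨_, normalClosure_normal.conj_mem n hn ⟨a, ha⟩, ?_⟩
        change a * n * a⁻¹ = z * a * n * (z * a)⁻¹
        rw [mul_inv_rev, show z * a * n * (a⁻¹ * z⁻¹) = z * (a * n * a⁻¹) * z⁻¹ by group,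
          ← mem_center_iff.1 (hO hz), mul_inv_cancel_right]⟩
    refine eq_top_iff.2 fun g _ => ?_
    obtain ⟨n, hn, e⟩ := (a6.trans (normalClosure_le_normal (N := (normalClosure
      {(⟨x, hx⟩ : commutator G)}).map (commutator G).subtype) (Set.singleton_subset_iff.2
        ⟨_, subset_normalClosure rfl, rfl⟩))) g.2
    exact Subtype.ext e ▸ hn
  obtain ⟨a8, a9⟩ := finrank_eig a5 a7 a2 a1 h3 (ρ.comp (commutator G).subtype) hd
    fun e => h1 (hρ (e.trans ρ.map_one.symm))
  refine ⟨a3, a8, a9, fun c n hn hc hcy => ?_, fun h5 h6 => ?_⟩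
  · have b1 : ∀ W : Submodule ℂ V, (∀ g, ∀ v ∈ W, ρ g v ∈ W) → 2 * finrank ℂ W + 1 < p →
        ∀ v ∈ W, ρ x v = v := fun W hW e v hv => congrArg Subtype.val (LinearMap.congr_fun
      (eq_one_of_small a5 a7 a2 a1 h3 (Representation.subrepresentation
        (ρ.comp (commutator G).subtype) W fun g v hv => hW g v hv) e) ⟨v, hv⟩)
    obtain ⟨ν, hν⟩ : ∃ ν, ¬ ∀ v ∈ c.eigenspace ν, ρ x v = v := not_forall.1 fun e =>
      h1 (hρ ((eq_of_eig hn hc e).trans ρ.map_one.symm))
    have b2 := mt (b1 _ fun g v hv => apply_mem_eig (hcy g).symm hv) hν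
    have b3 := finrank_eig_add c ν
    have b4 := b1 _ (fun g v hv => apply_mem_range (((hcy g).symm.sub_right
      ((Commute.one_right _).smul_right ν))) hv) (by omega)
    refine ⟨ν, ?_⟩
    rintro _ ⟨w, rfl⟩
    have b5 := b4 _ ⟨w, rfl⟩
    have b6 := LinearMap.congr_fun (hcy x).eq w
    simp only [LinearMap.sub_apply, LinearMap.smul_apply, End.one_apply, map_sub, map_smul,
      End.mul_apply, smul_sub] at b5 b6 ⊢
    rw [b6, sub_eq_sub_iff_sub_eq_sub, b5]
  · subst h5
    obtain ⟨P, hP⟩ := exists_sylow_eq_zpowers a2 a1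
    have b1 : Nat.card P = 5 := by rw [hP, Nat.card_zpowers, a2]
    have b2 := two_le_relIndex a5 P b1
    have b3 := relIndex_dvd_pred b1 le_rfl
    have b4 := relIndex_dvd_card (centralizer ((P : Subgroup (commutator G)) : Set (commutator G)))
      (normalizer ((P : Subgroup (commutator G)) : Set (commutator G)))
    generalize (centralizer ((P : Subgroup (commutator G)) : Set (commutator G))).relIndex _ = e
      at b2 b3 b4
    have b5 : 2 ∣ e := by
      have := Nat.le_of_dvd (by norm_num) b3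
      interval_cases e <;> simp_all
    obtain ⟨t, ht⟩ := exists_prime_orderOf_dvd_card' 2 ((b5.trans b4).trans (card_subgroup_dvd_card _))
    have b6 : t ^ 2 = 1 := ht ▸ pow_orderOf_eq_one t
    obtain ⟨a, b, b7, b8, b9⟩ := exists_mult_two (isCharacter_character (ρ.comp (commutator G).subtype)) b6
    have b10 := mul_finrank_eig (ρ.comp (commutator G).subtype) two_ne_zero b6 neg_one_sq
    have b11 : b ≠ 0 := by
      rintro rfl
      refine Nat.prime_two.ne_one (ht.symm.trans (orderOf_eq_one_iff.2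
        (Subtype.ext (faithful hρ t (b8.trans ?_)))))
      rw [charDegree_character] at b7
      simp [b7]
    rw [charDegree_character, h6] at b7
    obtain ⟨rfl, rfl⟩ : a = 1 ∧ b = 2 := by have := b9 a5; omega
    simp only [Finset.sum_range_succ, Finset.range_zero, Finset.sum_empty, pow_zero, pow_one, b8,
      Representation.char_one, h6] at b10
    refine ⟨t, a6 t.2, Nat.cast_injective (R := ℂ) ?_⟩
    push_cast at b10
    change 2 * (finrank ℂ (End.eigenspace (ρ t) (-1)) : ℂ) = _ at b10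
    linear_combination (1 / 2) * b10

include hP

theorem exists_gd : ∃ x, Gd p ρ x := by
  obtain ⟨x, hx, h1⟩ := Small.exists_mem_orderOf_eq_prime hp.out (dvd_card_commutator hρ hd hg hP)
  exact ⟨x, gd_of_mem hρ hd h3 hg hsq hx (fun e => hp.out.ne_one (by rw [← h1, e, orderOf_one]))
    ⟨1, by rw [pow_one, ← h1, pow_orderOf_eq_one]⟩⟩

theorem decomp (hy : PE p y) (h : y ∉ pCore p G) : ∃ z ∈ pCore p G, ∃ x, Gd p ρ x ∧ z * x = y := by
  have hO := pCore_le_center hρ (by omega) hg
  obtain ⟨z, hz, x, hx, rfl⟩ := exists_mul_of_center hO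
    (sup_eq_top hρ hd hg hsq le_rfl (dvd_card_commutator hρ hd hg hP)) y
  refine ⟨z, hz, x, gd_of_mem hρ hd h3 hg hsq hx (fun e => h (by rwa [e, mul_one])) ?_, rfl⟩
  exact pe_of_mem (hy.isPGroup.to_sup_of_normal_right (pCore_isPGroup p G)) (by
    simpa using mul_mem (mem_sup_right (inv_mem hz)) (mem_sup_left (mem_zpowers (z * x))))

end Cfsg.Lib.LinP
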