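import Cfsg.Agent.Lib.LinP.Str

/-!
# Removing the central `q`-elements from an irreducible linear group of degree prime to `q`
-/

set_option autoImplicit false

namespace Cfsg.Lib.LinP

open Module Cfsg.Lib.Cyc Subgroup Cfsg.Lib.Char Cfsg.Lib.Core

variable {G : Type*} [Group G] [Finite G] {q : ℕ} {ψ : G → ℂ} {z : G}

theorem PE.pow_ordProj (hq : q.Prime) (h : PE q z) : z ^ ordProj[q] (Nat.card G) = 1 := by
  obtain ⟨k, hk⟩ := (Modular.pElt_iff_pow hq).2 h
  rw [← orderOf_dvd_iff_pow_eq_one, hk]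
  exact pow_dvd_pow q ((hq.pow_dvd_iff_le_factorization Nat.card_pos.ne').1
    (hk ▸ orderOf_dvd_natCard z))

theorem exists_twist' (hψ : IsIrrCharacter G ψ) (hq : q.Prime) (hd : ¬ q ∣ charDegree ψ) :
    ∃ lam : G →* ℂˣ, lam ^ ordProj[q] (Nat.card G) = 1 ∧
      ∀ z ∈ center G, PE q z → ψ z = lam z * ψ 1 := by
  have hpos := hψ.charDegree_pos
  obtain ⟨d, ρ, hρ, rfl⟩ := hψ
  rw [charDegree_character, Module.finrank_fin_fun] at hd hpos
  have h0 : Nat.card G ≠ 0 := Nat.card_pos.ne'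
  obtain ⟨t, -, ht⟩ := Nat.exists_mul_mod_eq_of_coprime 1 (n := d * ordCompl[q] (Nat.card G))
    (k := ordProj[q] (Nat.card G)) (Nat.Coprime.pow_right _ (Nat.Coprime.mul_left
      ((Nat.Prime.coprime_iff_not_dvd hq).2 hd).symm
      (Nat.coprime_ordCompl hq h0).symm)) (Nat.ordProj_pos _ _).ne'
  let δ : G →* ℂˣ := (LinearMap.det.comp ρ).toHomUnits
  refine ⟨δ ^ (ordCompl[q] (Nat.card G) * t), MonoidHom.ext fun g => ?_, fun z hz hz' => ?_⟩
  · rw [MonoidHom.pow_apply, MonoidHom.pow_apply, ← pow_mul, mul_right_comm,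
      mul_comm (ordCompl[q] _), Nat.ordProj_mul_ordCompl_eq_self,
      pow_mul, ← map_pow, pow_card_eq_one']
    simp
  obtain ⟨c, hc⟩ := exists_eq_smul_of_commute ρ (ρ z) fun g => by
    rw [← Module.End.mul_eq_comp, ← Module.End.mul_eq_comp, ← map_mul, ← map_mul,
      mem_center_iff.1 hz g]
  have h1 : c ^ ordProj[q] (Nat.card G) = 1 := by
    have h2 := congrArg ρ (hz'.pow_ordProj hq)
    rw [map_pow, hc, map_one, ← Module.End.one_eq_id, smul_pow, one_pow] at h2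
    have h3 := congrFun (LinearMap.congr_fun h2 fun _ => 1) ⟨0, hpos⟩
    simpa using h3
  have h2 : ((δ ^ (ordCompl[q] (Nat.card G) * t)) z : ℂ) = c := by
    rw [MonoidHom.pow_apply, Units.val_pow_eq_pow_val]
    change LinearMap.det (ρ z) ^ _ = c
    rw [hc, LinearMap.det_smul, Module.finrank_fin_fun, LinearMap.det_id, mul_one, ← pow_mul,
      ← mul_assoc, pow_eq_pow_mod _ h1, ht, ← pow_eq_pow_mod _ h1, pow_one]
  rw [h2]
  simp [Representation.character, hc, mul_comm]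

omit [Finite G] in
theorem mem_pCore_of_center (hz : z ∈ center G) (h : PE q z) : z ∈ pCore q G :=
  le_pCore ⟨fun a ha g => by
    rwa [mem_center_iff.1 (zpowers_le.2 hz ha) g, mul_inv_cancel_right]⟩ h.isPGroup (mem_zpowers z)

theorem twist (hψ : IsIrrCharacter G ψ) (hf : ∀ g, ψ g = ψ 1 → g = 1) (hq : q.Prime)
    (hd : ¬ q ∣ charDegree ψ) (D : Subgroup G) [D.Normal] (hD : D = pCore q G ⊓ center G) :
    ∃ (lam : G →* ℂˣ) (φ : G ⧸ D → ℂ), IsIrrCharacter _ φ ∧ (∀ g, φ g = φ 1 → g = 1) ∧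
      charDegree φ = charDegree ψ ∧ center (G ⧸ D) = (center G).map (QuotientGroup.mk' D) ∧
        (∀ g, PE q (lam g)) ∧ D ⊓ lam.ker = ⊥ := by
  obtain ⟨lam, h1, h2⟩ := exists_twist' hψ hq hd
  have h3 : ∀ z ∈ D, ψ z = lam z * ψ 1 := fun z hz =>
    h2 z (hD.le hz).2 (pe_of_mem (pCore_isPGroup q G) (hD.le hz).1)
  have h4 := hψ.hom_mul lam⁻¹
  obtain ⟨φ, h5, h6⟩ := h4.exists_deflate D fun z hz => by rw [h3 z hz]; simp
  have h7 : φ 1 = ψ 1 := by simpa using h6 1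
  have h8 : ∀ g : G, ‖φ g‖ = ‖φ 1‖ → g ∈ center G := fun g hg =>
    mem_center_of_charCenter hψ.isCharacter hf (hψ.isCharacter.mem_charCenter_iff.2 (by
      rwa [h6, h7, norm_mul, norm_hom_apply, one_mul] at hg))
  refine ⟨lam, φ, h5, fun g hg => ?_, charDegree_congr h7, le_antisymm (fun g hg => ?_) ?_,
    fun g => ⟨_, by simpa using DFunLike.congr_fun h1 g⟩, eq_bot_iff.2 fun z hz => hf z ?_⟩
  · obtain ⟨g, rfl⟩ := QuotientGroup.mk_surjective g
    have h9 := h8 g (congrArg norm hg)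
    refine (QuotientGroup.eq_one_iff g).2 (hD.ge ⟨mem_pCore_of_center h9
      ⟨(Nat.card G).factorization q, hf _ ?_⟩, h9⟩)
    rw [← QuotientGroup.mk_one, h6, h6, ← h4.isCharacter.mem_charKer_iff] at hg
    have := h4.isCharacter.mem_charKer_iff.1 (pow_mem hg (ordProj[q] (Nat.card G)))
    rw [map_pow, ← MonoidHom.pow_apply, inv_pow, h1] at this
    simpa using this
  · obtain ⟨g, rfl⟩ := QuotientGroup.mk_surjective g
    exact ⟨g, h8 g (h5.isCharacter.mem_charCenter_iff.1 (h5.center_le_charCenter hg)), rfl⟩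
  · rintro _ ⟨g, hg, rfl⟩
    exact mem_center_iff.2 fun a => by
      obtain ⟨a, rfl⟩ := QuotientGroup.mk'_surjective D a
      rw [← map_mul, ← map_mul, mem_center_iff.1 hg]
  · rw [h3 z hz.1, show lam z = 1 from hz.2]
    simp

end Cfsg.Lib.LinP
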